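import Groth.Agent.S4871
import Groth.Agent.AlgGrp1.Geom
import Groth.Agent.AlgGrp1.SmoothReduced
import Groth.Agent.GrpschAbsch.SchDense
import Groth.Agent.Misc13.GaloisSplit

/-!
Schematic density in smooth morphisms with geometrically irreducible fibres.
-/

set_option autoImplicit false
universe u

open CategoryTheory CategoryTheory.Limits AlgebraicGeometry TopologicalSpace

namespace Groth.SmoothWeil

/-- A connected locally Noetherian scheme whose local rings are domains is irreducible. -/
theorem irreducibleSpace_of_connected (X : Scheme.{u}) [ConnectedSpace X] [IsLocallyNoetherian X]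
    (h : ∀ x : X, IsDomain (X.presheaf.stalk x)) : IrreducibleSpace X := by
  obtain ⟨C, hC, -⟩ := exists_mem_irreducibleComponents_subset_of_isIrreducible
    {Classical.arbitrary X} isIrreducible_singleton
  have hopen : IsOpen C := isOpen_iff_forall_mem_open.mpr fun x hx ↦ by
    obtain ⟨W, hW, hxW, -⟩ := exists_isAffineOpen_mem_and_subset (U := (⊤ : X.Opens)) (x := x) trivial
    haveI : IsNoetherianRing Γ(X, W) := IsLocallyNoetherian.component_noetherian ⟨W, hW⟩
    haveI : IsAffine (W : Scheme.{u}) := hW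
    haveI : NoetherianSpace (W : Scheme.{u}) := by
      haveI : IsLocallyNoetherian (W : Scheme.{u}) := inferInstance
      haveI : IsNoetherian (W : Scheme.{u}) := {}
      infer_instance
    have hdom : ∀ w : (W : Scheme.{u}), IsDomain ((W : Scheme.{u}).presheaf.stalk w) := fun w ↦
      haveI := h (W.ι w)
      (asIso (W.ι.stalkMap w)).commRingCatIsoToRingEquiv.symm.toMulEquiv.isDomain
    have hpre : IsIrreducible (W.ι ⁻¹' C) :=
      ⟨⟨⟨x, hxW⟩, hx⟩, hC.1.2.preimage W.ι.isOpenEmbedding⟩
    obtain ⟨D, hD, hDsub⟩ := exists_mem_irreducibleComponents_subset_of_isIrreducible _ hpre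
    have hDopen : IsOpen D := Groth.Variety2.isOpen_irreducibleComponents hdom hD
    have hirr : IsIrreducible (closure (W.ι '' D)) :=
      (hD.1.image _ W.ι.continuous.continuousOn).closure
    have hle : C ⊆ closure (W.ι '' D) := by
      refine (subset_closure_inter_of_isPreirreducible_of_isOpen hC.1.2 W.isOpen
        ⟨x, hx, hxW⟩).trans (closure_mono ?_)
      rintro z ⟨hzC, hzW⟩
      exact ⟨⟨z, hzW⟩, hDsub hzC, rfl⟩
    refine ⟨W.ι '' D, ?_, W.ι.isOpenEmbedding.isOpenMap _ hDopen, ⟨x, hxW⟩, hDsub hx, rfl⟩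
    exact subset_closure.trans (hC.2 hirr hle)
  rw [irreducibleSpace_def, Set.top_eq_univ, ← IsClopen.eq_univ
    ⟨isClosed_of_mem_irreducibleComponents C hC, hopen⟩ hC.1.nonempty]
  exact hC.1

/-- A smooth morphism with connected geometric fibres has irreducible geometric fibres. -/
theorem geometricallyIrreducible_of_connected {X S : Scheme.{u}} (f : X ⟶ S) [Smooth f]
    [GeometricallyConnected f] : GeometricallyIrreducible f := by
  refine ⟨geometrically_iff_of_isClosedUnderIsomorphisms.mpr fun K _ x ↦ ?_⟩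
  letI : (pullback f x).Over (Spec (CommRingCat.of K)) := ⟨pullback.snd f x⟩
  haveI : Smooth (pullback f x ↘ Spec (CommRingCat.of K)) :=
    inferInstanceAs (Smooth (pullback.snd f x))
  haveI : IsLocallyNoetherian (pullback f x) :=
    LocallyOfFiniteType.isLocallyNoetherian (pullback.snd f x)
  haveI : ConnectedSpace ↥(pullback f x) :=
    GeometricallyConnected.geometrically_connectedSpace (f := f) _ _ _ (IsPullback.of_hasPullback f x)
  refine irreducibleSpace_of_connected _ fun z ↦ ?_
  haveI := Groth.VarietyBC.isRegularLocalRing_of_mem_smoothLocus (k := K) (X := pullback f x) (x := z)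
    (by rw [Scheme.Hom.smoothLocus_eq_top]; trivial)
  exact Groth.Ega4Algebra1.isDomain_of_isRegularLocalRing _

/-- In a reduced scheme a dense open is schematically dense. -/
theorem isSchematicallyDense_of_dense {X : Scheme.{u}} [IsReduced X] (U : X.Opens)
    (hU : Dense (U : Set X)) : CInt.IsSchematicallyDense U := by
  intro V
  refine (injective_iff_map_eq_zero (X.presheaf.map (homOfLE (inf_le_left : V ⊓ U ≤ V)).op).hom).mpr
    fun s hs ↦ ?_
  rw [← AlgebraicGeometry.basicOpen_eq_bot_iff s, eq_bot_iff]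
  intro x hx
  obtain ⟨z, hz1, hz2⟩ := hU.inter_open_nonempty _ (X.basicOpen s).isOpen ⟨x, hx⟩
  have e := X.basicOpen_res s (homOfLE (inf_le_left : V ⊓ U ≤ V)).op
  rw [show X.presheaf.map (homOfLE (inf_le_left : V ⊓ U ≤ V)).op s = 0 from hs,
    Scheme.basicOpen_zero] at e
  have hz : z ∈ (V ⊓ U) ⊓ X.basicOpen s := ⟨⟨X.basicOpen_le s hz1, hz2⟩, hz1⟩
  rw [← e] at hz
  exact absurd hz (by simp)

/-- An open meeting all fibres of a smooth morphism with geometrically irreducible fibres is
schematically dense. -/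
theorem isSchematicallyDense_of_surjective {X S : Scheme.{u}} (f : X ⟶ S) [Smooth f]
    [GeometricallyIrreducible f] (U : X.Opens) (hU : ∀ s : S, ∃ x ∈ U, f x = s) :
    CInt.IsSchematicallyDense U := by
  have h := (Groth.Agent.S4871.result f U).mpr fun s ↦ by
    haveI : IsReduced (f.fiber s) := by
      haveI hs : Smooth (pullback.snd f (S.fromSpecResidueField s)) :=
        MorphismProperty.pullback_snd _ _ ‹Smooth f›
      exact @Groth.AlgGrp1.isReduced_of_smooth (S.residueField s) _ (f.fiber s)
        (pullback.snd f (S.fromSpecResidueField s)) hs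
    refine isSchematicallyDense_of_dense _ (IsOpen.dense (f.fiberι s ⁻¹ᵁ U).isOpen ?_)
    obtain ⟨x, hx, hxs⟩ := hU s
    obtain ⟨z, hz⟩ : x ∈ Set.range (f.fiberι s) := by rw [f.range_fiberι]; exact hxs
    exact ⟨z, show f.fiberι s z ∈ U by rw [hz]; exact hx⟩
  intro V
  have h1 := h S (𝟙 S)
  let p := pullback.fst f (𝟙 S)
  have hp : ∀ W : X.Opens, IsIso (p.app W) := fun W ↦ inferInstance
  refine (injective_iff_map_eq_zero (X.presheaf.map (homOfLE (inf_le_left : V ⊓ U ≤ V)).op).hom).mpr
    fun s hs ↦ (ConcreteCategory.bijective_of_isIso (p.app V)).1 ?_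
  rw [map_zero]
  refine h1 (p ⁻¹ᵁ V) ?_
  rw [map_zero]
  refine (ConcreteCategory.congr_hom
    (p.naturality (homOfLE (inf_le_left : V ⊓ U ≤ V)).op) s).symm.trans ?_
  exact (congrArg (p.app (V ⊓ U)) hs).trans (map_zero _)

/-- A morphism factors through a closed subscheme if it does on such an open. -/
theorem exists_lift_of_open {X Y Z S : Scheme.{u}} (f : Z ⟶ S) [Smooth f]
    [GeometricallyIrreducible f] {W : Scheme.{u}} (ι : W ⟶ Z) [IsOpenImmersion ι]
    [Surjective (ι ≫ f)] (j : Y ⟶ X) [IsClosedImmersion j] (g : Z ⟶ X)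
    (h : ∃ l, l ≫ j = ι ≫ g) : ∃ l : Z ⟶ Y, l ≫ j = g := by
  obtain ⟨l, hl⟩ := h
  let c := pullback.fst g j
  let t : W ⟶ pullback g j := pullback.lift ι l hl.symm
  have ht : t ≫ c = ι := pullback.lift_fst _ _ _
  haveI : IsSchemeTheoreticallyDominant ι.opensRange.ι :=
    Groth.GrpschAbsch.isSchemeTheoreticallyDominant_ι _
      (isSchematicallyDense_of_surjective f _ fun s ↦ by
        obtain ⟨w, hw⟩ := (ι ≫ f).surjective s
        exact ⟨ι w, ⟨w, rfl⟩, hw⟩)
  have hk : c.ker = ⊥ := by
    rw [← le_bot_iff, ← ι.opensRange.ι.ker_eq_bot]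
    have e : ι.isoOpensRange.inv ≫ t ≫ c = ι.opensRange.ι := by
      rw [ht, Scheme.Hom.isoOpensRange_inv_comp]
    rw [← e, ← Category.assoc]
    exact (ι.isoOpensRange.inv ≫ t).le_ker_comp c
  haveI : IsIso c := IsClosedImmersion.isIso_iff_ker_eq_bot.mpr hk
  exact ⟨inv c ≫ pullback.snd g j, by
    rw [Category.assoc, ← pullback.condition, IsIso.inv_hom_id_assoc]⟩

/-- A smooth group of finite presentation with connected fibres has geometrically irreducible
fibres. -/
theorem geometricallyIrreducible_of_connected_fibres {S : Scheme.{u}} (X : Over S) [GrpObj X]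
    [LocallyOfFiniteType X.hom] [QuasiCompact X.hom]
    (hconn : ∀ s : S, ConnectedSpace ↥(X.hom.fiber s)) : GeometricallyIrreducible X.hom := by
  rw [GeometricallyIrreducible.iff_geometricallyIrreducible_fiber]
  intro s
  letI : GrpObj (Over.mk X.hom) := ‹GrpObj X›
  let F : Over (Spec (CommRingCat.of (S.residueField s))) :=
    Over.mk (pullback.snd X.hom (S.fromSpecResidueField s))
  letI gF : GrpObj F := Over.grpObjMkPullbackSnd
  haveI : LocallyOfFiniteType F.hom := inferInstanceAs (LocallyOfFiniteType (pullback.snd _ _))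
  haveI : QuasiCompact F.hom := inferInstanceAs (QuasiCompact (pullback.snd _ _))
  haveI : ConnectedSpace F.left := hconn s
  exact @Groth.AlgGrp1.geometricallyIrreducible_of_connected (S.residueField s) _ F gF _ _ _

end Groth.SmoothWeil
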