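import Groth.Agent.SmoothWeil.Group
import Groth.Agent.Reductive.MultGa
import Groth.Agent.Reductive.SubgroupObj
import Groth.Agent.S4599
import Groth.Prelude.Def_Red2

/-!
Transporters, centralizers and normalizers of smooth subgroups with connected fibres.
-/

set_option autoImplicit false
universe u

open CategoryTheory CategoryTheory.Limits MonoidalCategory CartesianMonoidalCategory MonObj GrpObj
  AlgebraicGeometry

noncomputable section

namespace Groth.SmoothWeil

variable {S : Scheme.{u}} (G H : Over S)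

/-- The family `H × G`, over `G`, as a scheme over `S`. -/
abbrev famS : Over S := (Over.map G.hom).obj ((Over.pullback G.hom).obj H)

/-- The `H`-coordinate. -/
def qH : famS G H ⟶ H :=
  Over.homMk (pullback.fst H.hom G.hom) (by
    show _ = pullback.snd H.hom G.hom ≫ G.hom
    exact pullback.condition)

/-- The `G`-coordinate. -/
def qG : famS G H ⟶ G := Over.homMk (pullback.snd H.hom G.hom) rfl

variable {G H}

/-- Factorisation of the pulled back family, on points. -/
theorem factors_iff_forall {Y₀ : Over S} (e : Y₀ ⟶ famS G H)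
    (Q : ∀ (Z : Over S), (Z ⟶ G) → (Z ⟶ H) → Prop)
    (he : ∀ (Z : Over S) (p : Z ⟶ famS G H),
      (∃ y : Z ⟶ Y₀, y ≫ e = p) ↔ Q Z (p ≫ qG G H) (p ≫ qH G H)) (Z : Over S) (g : Z ⟶ G) :
    Factors ((Over.pullback G.hom).obj H).hom e.left g.left ↔
      ∀ (Z' : Over S) (x : Z' ⟶ Z) (h : Z' ⟶ H), Q Z' (x ≫ g) h := by
  let X : Over G.left := (Over.pullback G.hom).obj H
  constructor
  · rintro ⟨l, hl⟩ Z' x h
    let p : Z' ⟶ famS G H := Over.homMk (pullback.lift (f := H.hom) (g := G.hom) h.left (x ≫ g).left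
      (by rw [Over.w, Over.w])) (by
        show _ ≫ pullback.snd H.hom G.hom ≫ G.hom = _
        rw [pullback.lift_snd_assoc, Over.w])
    have hpG : p ≫ qG G H = x ≫ g := Over.OverMorphism.ext (pullback.lift_snd _ _ _)
    have hpH : p ≫ qH G H = h := Over.OverMorphism.ext (pullback.lift_fst _ _ _)
    rw [← hpG, ← hpH, ← he]
    let q : Z'.left ⟶ pullback X.hom g.left := pullback.lift p.left x.left (by
      show _ ≫ pullback.snd H.hom G.hom = _
      exact (pullback.lift_snd _ _ _).trans rfl)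
    have hq : (q ≫ l) ≫ e.left = p.left := by
      rw [Category.assoc, show l ≫ e.left = pullback.fst X.hom g.left from hl]
      exact pullback.lift_fst _ _ _
    refine ⟨Over.homMk (q ≫ l) ?_, Over.OverMorphism.ext hq⟩
    rw [← Over.w e, ← Category.assoc, hq]
    exact Over.w p
  · intro h
    let P : Over S := Over.mk (pullback.snd X.hom g.left ≫ Z.hom)
    let x : P ⟶ Z := Over.homMk (pullback.snd X.hom g.left) rfl
    let p : P ⟶ famS G H := Over.homMk (pullback.fst X.hom g.left) (by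
      show pullback.fst X.hom g.left ≫ X.hom ≫ G.hom = pullback.snd X.hom g.left ≫ Z.hom
      rw [pullback.condition_assoc, Over.w g])
    have hp : p ≫ qG G H = x ≫ g := Over.OverMorphism.ext pullback.condition
    obtain ⟨y, hy⟩ := (he P p).mpr (hp ▸ h P x (p ≫ qH G H))
    exact ⟨y.left, congrArg CommaMorphism.left hy⟩

/-- A condition on pairs of points, given by a finitely presented monomorphism into `H × G`, stable
under the group law of `H`, holds on a closed subscheme of `G`. -/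
theorem exists_pointLocus [GrpObj H] [Smooth H.hom] [QuasiSeparated H.hom]
    [GeometricallyIrreducible H.hom] {Y₀ : Over S} (e : Y₀ ⟶ famS G H) [Mono e]
    [LocallyOfFinitePresentation e.left] (Q : ∀ (Z : Over S), (Z ⟶ G) → (Z ⟶ H) → Prop)
    (he : ∀ (Z : Over S) (p : Z ⟶ famS G H),
      (∃ y : Z ⟶ Y₀, y ≫ e = p) ↔ Q Z (p ≫ qG G H) (p ≫ qH G H))
    (h1 : ∀ (Z : Over S) (g : Z ⟶ G), Q Z g 1)
    (hmul : ∀ (Z : Over S) (g : Z ⟶ G) (a b : Z ⟶ H), Q Z g a → Q Z g b → Q Z g (a * b))
    (hinv : ∀ (Z : Over S) (g : Z ⟶ G) (a : Z ⟶ H), Q Z g a → Q Z g a⁻¹) :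
    ∃ (T : Over S) (t : T ⟶ G), IsClosedImmersion t.left ∧ LocallyOfFinitePresentation t.left ∧
      ∀ (Z : Over S) (g : Z ⟶ G), (∃ z : Z ⟶ T, z ≫ t = g) ↔
        ∀ (Z' : Over S) (x : Z' ⟶ Z) (h : Z' ⟶ H), Q Z' (x ≫ g) h := by
  let X : Over G.left := (Over.pullback G.hom).obj H
  let Y : Over G.left := Over.mk (e.left ≫ X.hom)
  let eY : Y ⟶ X := Over.homMk e.left rfl
  haveI : Mono e.left := (Over.forget S).map_mono e
  haveI : Mono eY := (Over.forget _).mono_of_mono_map (inferInstanceAs (Mono e.left))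
  haveI : Smooth X.hom := MorphismProperty.pullback_snd _ _ ‹_›
  haveI : QuasiSeparated X.hom := MorphismProperty.pullback_snd _ _ ‹_›
  haveI : GeometricallyIrreducible X.hom :=
    inferInstanceAs (GeometricallyIrreducible (pullback.snd H.hom G.hom))
  haveI : LocallyOfFinitePresentation Y.hom := by
    show LocallyOfFinitePresentation (e.left ≫ X.hom)
    infer_instance
  let gpt : ∀ Z : Over G.left, (Over.map G.hom).obj Z ⟶ G := fun Z ↦ Over.homMk Z.hom rfl
  let pt := fun Z ↦ Groth.Reductive.bcPointEquiv G.hom H Z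
  have hqH : ∀ {Z : Over G.left} (z : Z ⟶ X), (Over.map G.hom).map z ≫ qH G H = pt Z z := fun z ↦ by
    show _ = ((Over.mapPullbackAdj G.hom).homEquiv _ _).symm z
    rw [Adjunction.homEquiv_counit]
    congr 1
  have hqG : ∀ {Z : Over G.left} (z : Z ⟶ X), (Over.map G.hom).map z ≫ qG G H = gpt Z := fun z ↦
    Over.OverMorphism.ext (Over.w z)
  have hmem : ∀ {Z : Over G.left} (z : Z ⟶ X),
      (∃ y : Z ⟶ Y, y ≫ eY = z) ↔ Q _ (gpt Z) (pt Z z) := by
    intro Z z
    rw [← hqG z, ← hqH z, ← he _ ((Over.map G.hom).map z)]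
    constructor
    · rintro ⟨y, rfl⟩
      refine ⟨Over.homMk y.left ?_, Over.OverMorphism.ext rfl⟩
      show y.left ≫ Y₀.hom = Z.hom ≫ G.hom
      rw [← Over.w y, ← Over.w e]
      exact (Category.assoc _ _ _).symm.trans
        ((congrArg (· ≫ G.hom) (Category.assoc y.left e.left X.hom)).trans (Category.assoc _ _ _)).symm
    · rintro ⟨y, hy⟩
      have hy' : y.left ≫ e.left = z.left := congrArg CommaMorphism.left hy
      refine ⟨Over.homMk y.left ?_, Over.OverMorphism.ext hy'⟩
      show y.left ≫ e.left ≫ X.hom = Z.hom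
      rw [← Category.assoc, hy']
      exact Over.w z
  obtain ⟨inst, hmon⟩ := Groth.Reductive.exists_grpObj_of_mono eY
    ((hmem 1).mpr (by rw [map_one]; exact h1 _ _))
    ((hmem _).mpr (by
      rw [map_mul]
      exact hmul _ _ _ _ ((hmem _).mp ⟨fst Y Y, rfl⟩) ((hmem _).mp ⟨snd Y Y, rfl⟩)))
    ((hmem _).mpr (by
      rw [map_inv]
      exact hinv _ _ _ ((hmem _).mp ⟨𝟙 Y, Category.id_comp _⟩)))
  obtain ⟨T, t, ht, htfp, hT⟩ := exists_groupLocus eY
  refine ⟨Over.mk (t ≫ G.hom), Over.homMk t rfl, ht, htfp, fun Z g ↦ ?_⟩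
  have hT' : (∃ z : Z ⟶ Over.mk (t ≫ G.hom), z ≫ (Over.homMk t rfl : Over.mk (t ≫ G.hom) ⟶ G) = g) ↔
      ∃ g' : Z.left ⟶ T, g' ≫ t = g.left := by
    constructor
    · rintro ⟨z, hz⟩
      exact ⟨z.left, congrArg CommaMorphism.left hz⟩
    · rintro ⟨z, hz⟩
      exact ⟨Over.homMk z (by show z ≫ t ≫ G.hom = Z.hom; rw [reassoc_of% hz, Over.w g]),
        Over.OverMorphism.ext hz⟩
  exact hT'.trans ((hT Z.left g.left).trans (factors_iff_forall e Q he Z g))

variable [GrpObj G] [GrpObj H] [Smooth H.hom] [QuasiSeparated H.hom]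
  [GeometricallyIrreducible H.hom] (i : H ⟶ G) [IsMonHom i]

/-- The transporter of a smooth subgroup with connected fibres into a subgroup. -/
theorem exists_transporter {K : Over S} [GrpObj K] (j : K ⟶ G) [IsMonHom j] [Mono j]
    [LocallyOfFinitePresentation j.left] :
    ∃ (T : Over S) (t : T ⟶ G), IsClosedImmersion t.left ∧ LocallyOfFinitePresentation t.left ∧
      ∀ (Z : Over S) (g : Z ⟶ G), (∃ z : Z ⟶ T, z ≫ t = g) ↔
        ∀ (Z' : Over S) (x : Z' ⟶ Z) (h : Z' ⟶ H),
          ∃ κ : Z' ⟶ K, (x ≫ g) * (h ≫ i) * (x ≫ g)⁻¹ = κ ≫ j := by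
  let c : famS G H ⟶ G := qG G H * (qH G H ≫ i) * (qG G H)⁻¹
  haveI : Mono j.left := (Over.forget S).map_mono j
  let Y₀ : Over S := Over.mk (pullback.fst c.left j.left ≫ (famS G H).hom)
  let e : Y₀ ⟶ famS G H := Over.homMk (pullback.fst c.left j.left) rfl
  haveI : Mono e.left := inferInstanceAs (Mono (pullback.fst c.left j.left))
  haveI : Mono e := (Over.forget S).mono_of_mono_map ‹Mono e.left›
  haveI : LocallyOfFinitePresentation e.left := MorphismProperty.pullback_fst _ _ ‹_›
  refine exists_pointLocus e (fun Z g h ↦ ∃ κ : Z ⟶ K, g * (h ≫ i) * g⁻¹ = κ ≫ j)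
    (fun Z p ↦ ?_) (fun Z g ↦ ⟨1, by rw [MonObj.one_comp, MonObj.one_comp, _root_.mul_one, mul_inv_cancel]⟩)
    (fun Z g a b ⟨κ, hκ⟩ ⟨κ', hκ'⟩ ↦ ⟨κ * κ', by
      rw [MonObj.mul_comp, MonObj.mul_comp, ← hκ, ← hκ']; group⟩)
    (fun Z g a ⟨κ, hκ⟩ ↦ ⟨κ⁻¹, by rw [GrpObj.inv_comp, GrpObj.inv_comp, ← hκ]; group⟩)
  have hc : p ≫ c = (p ≫ qG G H) * ((p ≫ qH G H) ≫ i) * (p ≫ qG G H)⁻¹ := by
    simp only [c, MonObj.comp_mul, GrpObj.comp_inv, Category.assoc]
  rw [← hc]
  constructor
  · rintro ⟨y, rfl⟩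
    have hw : (y.left ≫ pullback.snd c.left j.left) ≫ j.left = y.left ≫ e.left ≫ c.left := by
      rw [Category.assoc, ← pullback.condition]; rfl
    refine ⟨Over.homMk (y.left ≫ pullback.snd c.left j.left) ?_, Over.OverMorphism.ext hw.symm⟩
    rw [← Over.w j, ← Category.assoc, hw, Category.assoc, Category.assoc, Over.w c]
    exact (congrArg (y.left ≫ ·) (Over.w e)).trans (Over.w y)
  · rintro ⟨κ, hκ⟩
    refine ⟨Over.homMk (pullback.lift p.left κ.left (congrArg CommaMorphism.left hκ)) ?_,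
      Over.OverMorphism.ext (pullback.lift_fst _ _ _)⟩
    show _ ≫ pullback.fst c.left j.left ≫ (famS G H).hom = _
    rw [pullback.lift_fst_assoc, Over.w p]

/-- The centralizer of a smooth subgroup with connected fibres. -/
theorem exists_centralizer [LocallyOfFiniteType G.hom] :
    ∃ (Z : Over S) (_ : GrpObj Z) (j : Z ⟶ G), Red.IsCentralizerOf i j ∧
      IsClosedImmersion j.left ∧ LocallyOfFinitePresentation j.left := by
  let a : famS G H ⟶ G := qG G H * (qH G H ≫ i)
  let b : famS G H ⟶ G := (qH G H ≫ i) * qG G H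
  let q := pullback.lift (f := G.hom) (g := G.hom) a.left b.left (by rw [Over.w, Over.w])
  let Y₀ : Over S := Over.mk (pullback.fst q (pullback.diagonal G.hom) ≫ (famS G H).hom)
  let e : Y₀ ⟶ famS G H := Over.homMk (pullback.fst q (pullback.diagonal G.hom)) rfl
  haveI : Mono e.left := inferInstanceAs (Mono (pullback.fst q (pullback.diagonal G.hom)))
  haveI : Mono e := (Over.forget S).mono_of_mono_map ‹Mono e.left›
  haveI : LocallyOfFinitePresentation e.left :=
    MorphismProperty.pullback_fst (P := @LocallyOfFinitePresentation) _ _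
      (Groth.Agent.S4599.result G.hom)
  obtain ⟨T, t, ht, htfp, hT⟩ := exists_pointLocus e (fun Z g h ↦ g * (h ≫ i) = (h ≫ i) * g)
    (fun Z p ↦ by
      have ha : p ≫ a = (p ≫ qG G H) * ((p ≫ qH G H) ≫ i) := by
        simp only [a, MonObj.comp_mul, Category.assoc]
      have hb : p ≫ b = ((p ≫ qH G H) ≫ i) * (p ≫ qG G H) := by
        simp only [b, MonObj.comp_mul, Category.assoc]
      rw [← ha, ← hb]
      constructor
      · rintro ⟨y, rfl⟩
        rw [Category.assoc, Category.assoc]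
        congr 1
        refine Over.OverMorphism.ext ?_
        have h1 := congrArg (fun z ↦ z ≫ pullback.fst G.hom G.hom)
          (pullback.condition (f := q) (g := pullback.diagonal G.hom))
        have h2 := congrArg (fun z ↦ z ≫ pullback.snd G.hom G.hom)
          (pullback.condition (f := q) (g := pullback.diagonal G.hom))
        simp only [q, Category.assoc, pullback.lift_fst, pullback.lift_snd, pullback.diagonal_fst,
          pullback.diagonal_snd, Category.comp_id] at h1 h2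
        exact h1.trans h2.symm
      · intro h
        let l := pullback.lift (f := q) (g := pullback.diagonal G.hom) p.left (p ≫ a).left (by
          apply pullback.hom_ext
          · simp only [q, Category.assoc, pullback.lift_fst, pullback.diagonal_fst, Category.comp_id,
              Over.comp_left]
          · simp only [q, Category.assoc, pullback.lift_snd, pullback.diagonal_snd, Category.comp_id]
            rw [← Over.comp_left, h])
        exact ⟨Over.homMk l (by
          show l ≫ pullback.fst _ _ ≫ _ = _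
          rw [pullback.lift_fst_assoc, Over.w]), Over.OverMorphism.ext (pullback.lift_fst _ _ _)⟩)
    (fun Z g ↦ by rw [MonObj.one_comp, _root_.mul_one, _root_.one_mul])
    (fun Z g a b ha hb ↦ by
      rw [MonObj.mul_comp, ← _root_.mul_assoc, ha, _root_.mul_assoc, hb, _root_.mul_assoc])
    (fun Z g a ha ↦ by
      rw [GrpObj.inv_comp, eq_inv_mul_iff_mul_eq, ← _root_.mul_assoc, ← ha, mul_inv_cancel_right])
  haveI := ht
  haveI : Mono t := (Over.forget S).mono_of_mono_map (inferInstanceAs (Mono t.left))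
  have hmem := fun (Z : Over S) (z : Z ⟶ T) ↦ (hT Z (z ≫ t)).mp ⟨z, rfl⟩
  obtain ⟨inst, hmon⟩ := Groth.Reductive.exists_grpObj_of_mono t ((hT _ 1).mpr fun X' x h ↦ by
      rw [MonObj.comp_one, _root_.one_mul, _root_.mul_one])
    ((hT _ _).mpr fun X' x h ↦ by
      rw [MonObj.comp_mul]
      have a := hmem _ (fst T T) X' x h
      have b := hmem _ (snd T T) X' x h
      rw [_root_.mul_assoc, b, ← _root_.mul_assoc, a, _root_.mul_assoc])
    ((hT _ _).mpr fun X' x h ↦ by
      rw [GrpObj.comp_inv]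
      have a := hmem _ (𝟙 T) X' x h
      rw [Category.id_comp] at a
      rw [inv_mul_eq_iff_eq_mul, ← _root_.mul_assoc, a, mul_inv_cancel_right])
  exact ⟨T, inst, t, ⟨hmon, inferInstance, hT⟩, ht, htfp⟩

/-- The normalizer of a smooth subgroup with connected fibres. -/
theorem exists_normalizer [Mono i] [LocallyOfFiniteType G.hom] :
    ∃ (N : Over S) (_ : GrpObj N) (j : N ⟶ G), Red.IsNormalizerOf i j ∧
      IsClosedImmersion j.left ∧ LocallyOfFinitePresentation j.left := by
  haveI : LocallyOfFinitePresentation (i.left ≫ G.hom) := by rw [Over.w]; infer_instance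
  haveI : LocallyOfFinitePresentation i.left := Groth.PropsBasic2.lfp_of_comp i.left G.hom
  obtain ⟨A, a, ha, hafp, hA⟩ := exists_transporter i i
  haveI := ha
  haveI := hafp
  let b : A ⟶ G := a ≫ ι[G]
  haveI : IsIso (ι[G] : G ⟶ G).left := ((Over.forget S).mapIso
    { hom := ι[G], inv := ι[G], hom_inv_id := by simp, inv_hom_id := by simp }).isIso_hom
  have hB : ∀ (Z : Over S) (g : Z ⟶ G), (∃ z : Z ⟶ A, z ≫ b = g) ↔
      ∃ z : Z ⟶ A, z ≫ a = g⁻¹ := fun Z g ↦ by
    refine exists_congr fun z ↦ ?_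
    rw [show z ≫ b = (z ≫ a)⁻¹ by simp only [b, GrpObj.inv_eq_inv, GrpObj.comp_inv, Category.comp_id], inv_eq_iff_eq_inv]
  haveI : IsClosedImmersion b.left := inferInstanceAs (IsClosedImmersion (a.left ≫ _))
  haveI : LocallyOfFinitePresentation b.left :=
    inferInstanceAs (LocallyOfFinitePresentation (a.left ≫ _))
  let N : Over S := Over.mk (pullback.fst a.left b.left ≫ A.hom)
  let pA : N ⟶ A := Over.homMk (pullback.fst a.left b.left) rfl
  let pB : N ⟶ A := Over.homMk (pullback.snd a.left b.left) (by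
    show _ = pullback.fst a.left b.left ≫ A.hom
    rw [← Over.w a, pullback.condition_assoc]
    exact congrArg (pullback.snd a.left b.left ≫ ·) ((Over.w b).trans (Over.w a).symm).symm)
  let j : N ⟶ G := pA ≫ a
  haveI hj : IsClosedImmersion j.left :=
    inferInstanceAs (IsClosedImmersion (pullback.fst a.left b.left ≫ a.left))
  haveI : LocallyOfFinitePresentation j.left :=
    inferInstanceAs (LocallyOfFinitePresentation (pullback.fst a.left b.left ≫ a.left))
  have hN : ∀ (Z : Over S) (g : Z ⟶ G), (∃ t : Z ⟶ N, t ≫ j = g) ↔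
      (∃ z : Z ⟶ A, z ≫ a = g) ∧ ∃ z : Z ⟶ A, z ≫ a = g⁻¹ := fun Z g ↦ by
    rw [← hB]
    constructor
    · rintro ⟨t, rfl⟩
      refine ⟨⟨t ≫ pA, Category.assoc _ _ _⟩, ⟨t ≫ pB, ?_⟩⟩
      rw [Category.assoc]
      congr 1
      exact Over.OverMorphism.ext pullback.condition.symm
    · rintro ⟨⟨x, hx⟩, ⟨y, hy⟩⟩
      exact ⟨Over.homMk (pullback.lift x.left y.left
          (congrArg CommaMorphism.left (hx.trans hy.symm))) (by
          show _ ≫ pullback.fst a.left b.left ≫ A.hom = _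
          rw [pullback.lift_fst_assoc, Over.w x]),
        Over.OverMorphism.ext (by
          show pullback.lift _ _ _ ≫ pullback.fst a.left b.left ≫ a.left = g.left
          rw [pullback.lift_fst_assoc, ← Over.comp_left, hx])⟩
  have hiff : ∀ (Z : Over S) (g : Z ⟶ G), (∃ z : Z ⟶ N, z ≫ j = g) ↔
      ∀ (X' : Over S) (x : X' ⟶ Z) (h : X' ⟶ H),
        (∃ h' : X' ⟶ H, (x ≫ g) * (h ≫ i) * (x ≫ g)⁻¹ = h' ≫ i) ∧
        (∃ h' : X' ⟶ H, (x ≫ g)⁻¹ * (h ≫ i) * (x ≫ g) = h' ≫ i) := fun Z g ↦ by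
    rw [hN, hA, hA]
    simp only [GrpObj.comp_inv, _root_.inv_inv, ← forall_and]
  haveI : Mono j := (Over.forget S).mono_of_mono_map (inferInstanceAs (Mono j.left))
  have hmem := fun (X : Over S) (z : X ⟶ N) ↦ (hiff X (z ≫ j)).mp ⟨z, rfl⟩
  obtain ⟨inst, hmon⟩ := Groth.Reductive.exists_grpObj_of_mono j ((hiff _ 1).mpr fun X' x h ↦ by
      simp only [MonObj.comp_one, _root_.one_mul, inv_one, _root_.mul_one]
      exact ⟨⟨h, rfl⟩, ⟨h, rfl⟩⟩)
    ((hiff _ _).mpr fun X' x h ↦ by
      rw [MonObj.comp_mul]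
      obtain ⟨p1, hp1⟩ := (hmem _ (snd N N) X' x h).1
      obtain ⟨p2, hp2⟩ := (hmem _ (fst N N) X' x p1).1
      obtain ⟨q1, hq1⟩ := (hmem _ (fst N N) X' x h).2
      obtain ⟨q2, hq2⟩ := (hmem _ (snd N N) X' x q1).2
      refine ⟨⟨p2, ?_⟩, ⟨q2, ?_⟩⟩
      · rw [← hp2, ← hp1]; group
      · rw [← hq2, ← hq1]; group)
    ((hiff _ _).mpr fun X' x h ↦ by
      rw [GrpObj.comp_inv, _root_.inv_inv]
      have := hmem _ (𝟙 N) X' x h
      rw [Category.id_comp] at this
      exact ⟨this.2, this.1⟩)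
  exact ⟨N, inst, j, ⟨hmon, inferInstance, hiff⟩, hj, inferInstance⟩

end Groth.SmoothWeil
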