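import Groth.Agent.SmoothWeil.Locus
import Groth.Prelude.Def_SGA3x

/-!
Weil restriction of a closed subscheme along an essentially free morphism.
-/

set_option autoImplicit false
universe u

open CategoryTheory CategoryTheory.Limits AlgebraicGeometry TensorProduct

noncomputable section

namespace Groth.SmoothWeil

variable {R : Type u} [CommRing R] {M : Type u} [AddCommGroup M] [Module R M] [Module.Projective R M]

/-- Finitely many elements of a projective module have finitely generated coefficient ideal. -/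
theorem coeffSpan_fg (s : Finset M) : (coeffSpan (R := R) (s : Set M)).FG := by
  classical
  obtain ⟨sec, hsec⟩ := (Module.projective_def' (R := R) (P := M)).mp inferInstance
  let F : Finset R := s.biUnion fun x ↦ (sec x).support.image fun m ↦ sec x m
  refine ⟨F, le_antisymm (Ideal.span_le.mpr fun r hr ↦ ?_) ?_⟩
  · obtain ⟨x, hx, hr⟩ := Finset.mem_biUnion.mp hr
    obtain ⟨m, -, rfl⟩ := Finset.mem_image.mp hr
    exact Ideal.subset_span ⟨(Finsupp.lapply m).comp sec, x, hx, rfl⟩
  · have key := forall_tmul_eq_zero_iff (R := R) (s : Set M) (R ⧸ Ideal.span (F : Set R))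
    rw [Ideal.Quotient.algebraMap_eq, Ideal.mk_ker] at key
    refine key.mp fun x hx ↦ ?_
    have hx' : x = Finsupp.linearCombination R id (sec x) := (LinearMap.congr_fun hsec x).symm
    rw [hx', Finsupp.linearCombination_apply, Finsupp.sum, TensorProduct.tmul_sum]
    refine Finset.sum_eq_zero fun m hm ↦ ?_
    have hmF : sec x m ∈ Ideal.span (F : Set R) :=
      Ideal.subset_span (Finset.mem_biUnion.mpr ⟨x, hx, Finset.mem_image_of_mem _ hm⟩)
    rw [id, ← TensorProduct.smul_tmul, ← Algebra.algebraMap_eq_smul_one, Ideal.Quotient.algebraMap_eq,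
      Ideal.Quotient.eq_zero_iff_mem.mpr hmF, TensorProduct.zero_tmul]

variable {S X Y : Scheme.{u}} {f : X ⟶ S} {j : Y ⟶ X} [IsClosedImmersion j]

/-- The ideal of the locus for a family of charts with projective coordinate rings. -/
theorem exists_ideal_free {ι : Type u} (C : ι → Type u) [∀ v, CommRing (C v)] [∀ v, Algebra R (C v)]
    [∀ v, Module.Projective R (C v)] (g : Spec (CommRingCat.of R) ⟶ S)
    (ω : ∀ v, Spec (CommRingCat.of (C v)) ⟶ pullback f g)
    (hω : ∀ v, ω v ≫ pullback.snd f g = Spec.map (CommRingCat.ofHom (algebraMap R (C v))))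
    [∀ v, IsOpenImmersion (ω v)] (hcov : ∀ x, ∃ v, x ∈ Set.range (ω v)) :
    ∃ K : Ideal R, (∀ (T : Type u) [CommRing T] (φ : R →+* T),
        Factors f j (Spec.map (CommRingCat.ofHom φ) ≫ g) ↔ ∀ r ∈ K, φ r = 0) ∧
      (Finite ι ∧ LocallyOfFinitePresentation j → K.FG) := by
  let ω₀ := fun v ↦ ω v ≫ pullback.fst f g
  have h := fun v ↦ (IsClosedImmersion.Spec_iff (R := CommRingCat.of (C v))
    (f := pullback.fst (ω₀ v) j)).mp inferInstance
  choose J eI heI using h
  refine ⟨⨆ v, coeffSpan (R := R) (J v : Set (C v)), fun T _ φ ↦ ?_, fun ⟨hι, hfp⟩ ↦ ?_⟩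
  · letI : Algebra R T := φ.toAlgebra
    let a := Spec.map (CommRingCat.ofHom φ)
    let incR : ∀ v, C v →+* T ⊗[R] C v := fun v ↦
      (Algebra.TensorProduct.includeRight : C v →ₐ[R] T ⊗[R] C v).toRingHom
    let π : ∀ v, Spec (CommRingCat.of (T ⊗[R] C v)) ⟶ Spec (CommRingCat.of T) := fun v ↦
      Spec.map (CommRingCat.ofHom (algebraMap T (T ⊗[R] C v)))
    have sq : ∀ v, IsPullback (Spec.map (CommRingCat.ofHom (incR v))) (π v)
        (ω v ≫ pullback.snd f g) a := fun v ↦ by
      rw [hω v]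
      exact isPullback_SpecMap_of_isPushout _ _ _ _ (CommRingCat.isPushout_tensorProduct R T (C v)).flip
    let m : ∀ v, Spec (CommRingCat.of (T ⊗[R] C v)) ⟶ pullback f (a ≫ g) := fun v ↦
      pullback.lift (Spec.map (CommRingCat.ofHom (incR v)) ≫ ω₀ v) (π v) (by
        rw [Category.assoc, Category.assoc, pullback.condition]
        exact (Category.assoc _ _ _).symm.trans
          ((congrArg (· ≫ g) ((sq v).w)).trans (by simp)))
    have sqm : ∀ v, IsPullback (Spec.map (CommRingCat.ofHom (incR v))) (m v) (ω v)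
        (pullback.lift (f := f) (g := g) (pullback.fst f (a ≫ g)) (pullback.snd f (a ≫ g) ≫ a)
          (by rw [Category.assoc]; exact pullback.condition)) := fun v ↦ by
      refine IsPullback.of_bot (h₁₁ := Spec.map (CommRingCat.ofHom (incR v))) ?_ ?_ (isPullback_map g a)
      · rw [pullback.lift_snd]; exact sq v
      · apply pullback.hom_ext
        · rw [Category.assoc, Category.assoc, pullback.lift_fst, pullback.lift_fst]
        · simp only [m, Category.assoc, pullback.lift_snd, pullback.lift_snd_assoc]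
          exact (sq v).w
    haveI : ∀ v, IsOpenImmersion (m v) := fun v ↦
      MorphismProperty.of_isPullback (P := @IsOpenImmersion) (sqm v) inferInstance
    have hm : ∀ p, ∃ v, p ∈ Set.range (m v) := fun p ↦ by
      obtain ⟨v, c, hc⟩ := hcov (pullback.lift (f := f) (g := g) (pullback.fst f (a ≫ g))
        (pullback.snd f (a ≫ g) ≫ a) (by rw [Category.assoc]; exact pullback.condition) p)
      obtain ⟨z, -, hz⟩ := Scheme.exists_preimage_of_isPullback (sqm v) c p hc
      exact ⟨v, z, hz⟩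
    have hpiece : ∀ v, (∃ l, l ≫ j = m v ≫ pullback.fst f (a ≫ g)) ↔
        ∀ x ∈ J v, (1 : T) ⊗ₜ[R] x = (0 : T ⊗[R] C v) := fun v ↦ by
      rw [show m v ≫ pullback.fst f (a ≫ g) = Spec.map (CommRingCat.ofHom (incR v)) ≫ ω₀ v from
        pullback.lift_fst _ _ _]
      constructor
      · rintro ⟨l, hl⟩ x hx
        let ψ := Spec.preimage (pullback.lift _ l hl.symm ≫ (eI v).hom)
        have hψ : CommRingCat.ofHom (Ideal.Quotient.mk (J v)) ≫ ψ = CommRingCat.ofHom (incR v) := by
          apply Spec.map_injective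
          rw [Spec.map_comp, Spec.map_preimage, Category.assoc, ← heI v, pullback.lift_fst]
        have := ConcreteCategory.congr_hom hψ x
        change ψ (Ideal.Quotient.mk (J v) x) = (1 : T) ⊗ₜ[R] x at this
        rw [← this, Ideal.Quotient.eq_zero_iff_mem.mpr hx, map_zero]
      · intro h
        let ψ : C v ⧸ J v →+* T ⊗[R] C v := Ideal.Quotient.lift (J v) (incR v) h
        refine ⟨Spec.map (CommRingCat.ofHom ψ) ≫ (eI v).inv ≫ pullback.snd (ω₀ v) j, ?_⟩
        rw [Category.assoc, Category.assoc, ← pullback.condition, heI v, Category.assoc,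
          Iso.inv_hom_id_assoc, ← Spec.map_comp_assoc]
        rfl
    rw [show (∀ r ∈ ⨆ v, coeffSpan (R := R) (J v : Set (C v)), φ r = 0) ↔
        ∀ v, coeffSpan (R := R) (J v : Set (C v)) ≤ RingHom.ker (algebraMap R T) from
      (Iff.intro (fun h r hr ↦ h r hr) (fun h r hr ↦ h hr) : _ ↔ _ ≤ RingHom.ker (algebraMap R T)).trans
        iSup_le_iff]
    refine Iff.trans ?_ (forall_congr' fun v ↦ forall_tmul_eq_zero_iff (R := R) (J v : Set (C v)) T)
    constructor
    · rintro ⟨l, hl⟩ v x hx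
      exact (hpiece v).mp ⟨m v ≫ l, by rw [Category.assoc, hl]⟩ x hx
    · intro h
      let 𝒰 : (pullback f (a ≫ g)).OpenCover :=
        Scheme.openCoverOfIsOpenCover _ (fun v ↦ (m v).opensRange) (.mk (top_unique fun p _ ↦ by
          obtain ⟨v, hv⟩ := hm p
          exact TopologicalSpace.Opens.mem_iSup.mpr ⟨v, hv⟩))
      refine Groth.Reductive.MTInt.exists_glue_of_mono 𝒰 j _ fun v ↦ ?_
      obtain ⟨l, hl⟩ := (hpiece v).mpr (h v)
      refine ⟨(m v).isoOpensRange.inv ≫ l, ?_⟩
      show _ = (m v).opensRange.ι ≫ _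
      rw [Category.assoc, hl, ← Category.assoc]
      exact congrArg (· ≫ pullback.fst f (a ≫ g)) (Scheme.Hom.isoOpensRange_inv_comp (m v))
  · haveI := hfp
    refine Submodule.fg_iSup _ fun v ↦ ?_
    haveI : LocallyOfFinitePresentation
        (Spec.map (CommRingCat.ofHom (Ideal.Quotient.mk (J v)))) := by
      have : LocallyOfFinitePresentation ((eI v).inv ≫ pullback.fst (ω₀ v) j) := inferInstance
      rwa [heI v, Iso.inv_hom_id_assoc] at this
    have hq : (Ideal.Quotient.mk (J v)).FinitePresentation :=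
      (HasRingHomProperty.Spec_iff (P := @LocallyOfFinitePresentation)).mp this
    have hfp' : Algebra.FinitePresentation (C v) (C v ⧸ J v) := hq
    have hk := Algebra.FinitePresentation.ker_fG_of_surjective (Ideal.Quotient.mkₐ (C v) (J v))
      Ideal.Quotient.mk_surjective
    rw [show RingHom.ker (Ideal.Quotient.mkₐ (C v) (J v)).toRingHom = J v from
      Ideal.Quotient.mkₐ_ker (C v) (J v)] at hk
    obtain ⟨s, hs⟩ := hk
    suffices e : coeffSpan (R := R) (J v : Set (C v)) = coeffSpan (R := R) (s : Set (C v)) by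
      rw [e]; exact coeffSpan_fg s
    refine le_antisymm ?_ (Ideal.span_mono ?_)
    · have key := forall_tmul_eq_zero_iff (R := R) (J v : Set (C v))
        (R ⧸ coeffSpan (R := R) (s : Set (C v)))
      rw [Ideal.Quotient.algebraMap_eq, Ideal.mk_ker] at key
      refine key.mp fun x hx ↦ ?_
      have h0 := (forall_tmul_eq_zero_iff (R := R) (s : Set (C v))
        (R ⧸ coeffSpan (R := R) (s : Set (C v)))).mpr
          (by rw [Ideal.Quotient.algebraMap_eq, Ideal.mk_ker])
      have : J v ≤ RingHom.ker (Algebra.TensorProduct.includeRight :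
          C v →ₐ[R] (R ⧸ coeffSpan (R := R) (s : Set (C v))) ⊗[R] C v) := by
        rw [← hs]
        exact Ideal.span_le.mpr h0
      exact this hx
    · rintro _ ⟨φ, x, hx, rfl⟩
      exact ⟨φ, x, hs ▸ Ideal.subset_span hx, rfl⟩

variable (f j)

/-- The Weil restriction of a closed subscheme along an essentially free morphism. -/
theorem exists_weilLocus_essFree (hf : SGA3x.IsEssentiallyFree f) :
    ∃ (T : Scheme.{u}) (t : T ⟶ S), IsClosedImmersion t ∧
      (∀ (S' : Scheme.{u}) (g : S' ⟶ S), (∃ g' : S' ⟶ T, g' ≫ t = g) ↔ Factors f j g) ∧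
      (QuasiCompact f ∧ LocallyOfFinitePresentation j → LocallyOfFinitePresentation t) := by
  refine exists_locus_of_nbhds fun R _ g s ↦ ?_
  obtain ⟨U, hsU, hU, S', hS', g₀, hflat, hsurj, hV⟩ := hf (g s)
  obtain ⟨_, ⟨_, ⟨b, rfl⟩, rfl⟩, hsb, hbU⟩ :=
    PrimeSpectrum.isBasis_basic_opens.exists_subset_of_mem_open
      (show s ∈ g ⁻¹ᵁ U from hsU) (g ⁻¹ᵁ U).isOpen
  haveI : IsAffine (U : Scheme.{u}) := hU
  -- the charts over `S'`
  let R₀ := Γ(S', ⊤)
  let g' : Spec (CommRingCat.of R₀) ⟶ S := S'.isoSpec.inv ≫ g₀ ≫ U.ι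
  choose V hxV hVaff hproj using hV
  let h₀ := g₀ ≫ U.ι
  haveI : ∀ x, IsAffine (V x : Scheme.{u}) := hVaff
  let C : ↥(pullback f h₀) → Type u := fun x ↦ Γ((V x : Scheme.{u}), ⊤)
  letI : ∀ x, Algebra R₀ (C x) := fun x ↦
    ((V x).ι ≫ pullback.snd f h₀).appTop.hom.toAlgebra
  haveI : ∀ x, Module.Projective R₀ (C x) := hproj
  let eX : pullback f h₀ ⟶ pullback f g' :=
    pullback.map _ _ _ _ (𝟙 X) S'.isoSpec.hom (𝟙 S) (by simp) (by simp [g', h₀])
  haveI : IsIso eX := inferInstance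
  let ω : ∀ x, Spec (CommRingCat.of (C x)) ⟶ pullback f g' := fun x ↦
    (V x : Scheme.{u}).isoSpec.inv ≫ (V x).ι ≫ eX
  have hω : ∀ x, ω x ≫ pullback.snd f g' = Spec.map (CommRingCat.ofHom (algebraMap R₀ (C x))) := by
    intro x
    simp only [ω, eX, Category.assoc, pullback.lift_snd]
    show _ = Spec.map ((V x).ι ≫ pullback.snd f h₀).appTop
    rw [← cancel_epi (V x : Scheme.{u}).isoSpec.hom, Iso.hom_inv_id_assoc,
      Scheme.isoSpec_hom_naturality, Category.assoc]
  have hrange : ∀ x, x ∈ Set.range ((V x : Scheme.{u}).isoSpec.inv ≫ (V x).ι) := fun x ↦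
    ⟨(V x : Scheme.{u}).isoSpec.hom ⟨x, hxV x⟩, by
      rw [← Scheme.Hom.comp_apply, Iso.hom_inv_id_assoc]; rfl⟩
  -- a flat affine neighbourhood of `s`
  let D : Spec (CommRingCat.of (Localization.Away b)) ⟶ Spec (CommRingCat.of R) :=
    Spec.map (CommRingCat.ofHom (algebraMap R (Localization.Away b)))
  haveI : IsOpenImmersion D := IsOpenImmersion.of_isLocalization (S := Localization.Away b) b
  let gU : Spec (CommRingCat.of (Localization.Away b)) ⟶ (U : Scheme.{u}) :=
    IsOpenImmersion.lift U.ι (D ≫ g) (by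
      rintro _ ⟨z, rfl⟩
      rw [Scheme.Opens.range_ι, Scheme.Hom.comp_apply]
      refine hbU ?_
      rw [← PrimeSpectrum.localization_away_comap_range (Localization.Away b) b]
      exact ⟨z, rfl⟩)
  have hgU : gU ≫ U.ι = D ≫ g := IsOpenImmersion.lift_fac _ _ _
  let P := pullback gU g₀
  haveI : IsAffine P := inferInstance
  haveI := hflat
  haveI := hsurj
  let π : Spec (CommRingCat.of Γ(P, ⊤)) ⟶ Spec (CommRingCat.of R) :=
    P.isoSpec.inv ≫ pullback.fst gU g₀ ≫ D
  let ψ : CommRingCat.of R ⟶ Γ(P, ⊤) := Spec.preimage π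
  letI : Algebra R Γ(P, ⊤) := ψ.hom.toAlgebra
  have hπ : Spec.map ψ = π := Spec.map_preimage _
  have hrg : Set.range π = Set.range D := by
    refine Set.Subset.antisymm (by rintro _ ⟨z, rfl⟩; exact ⟨_, rfl⟩) ?_
    rintro _ ⟨z, rfl⟩
    obtain ⟨w, hw⟩ := (pullback.fst gU g₀).surjective z
    refine ⟨P.isoSpec.hom w, ?_⟩
    rw [← Scheme.Hom.comp_apply, Iso.hom_inv_id_assoc, Scheme.Hom.comp_apply, hw]
  haveI : Flat (Spec.map ψ) := by rw [hπ]; infer_instance
  -- the ideal
  obtain ⟨v₀, hv₀⟩ : ∃ t : Set ↥(pullback f h₀), (QuasiCompact f → t.Finite) ∧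
      ∀ y, ∃ x ∈ t, y ∈ V x := by
    by_cases hqc : QuasiCompact f
    · haveI := hqc
      haveI : CompactSpace ↥(pullback f h₀) :=
        QuasiCompact.compactSpace_of_compactSpace (pullback.snd f h₀)
      obtain ⟨t, ht⟩ := isCompact_univ.elim_finite_subcover (fun x ↦ (V x : Set ↥(pullback f h₀)))
        (fun x ↦ (V x).isOpen) fun y _ ↦ Set.mem_iUnion.mpr ⟨y, hxV y⟩
      refine ⟨(t : Set _), fun _ ↦ t.finite_toSet, fun y ↦ ?_⟩
      obtain ⟨x, hx⟩ := Set.mem_iUnion.mp (ht (Set.mem_univ y))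
      obtain ⟨hxt, hy⟩ := Set.mem_iUnion.mp hx
      exact ⟨x, hxt, hy⟩
    · exact ⟨Set.univ, fun h ↦ absurd h hqc, fun y ↦ ⟨y, trivial, hxV y⟩⟩
  obtain ⟨K, hK, hKfg⟩ := exists_ideal_free (f := f) (j := j) (fun x : v₀ ↦ C x.1) g' (fun x ↦ ω x.1)
    (fun x ↦ hω x.1) fun y ↦ by
      obtain ⟨x, hxt, hx⟩ := hv₀.2 ((inv eX) y)
      refine ⟨⟨x, hxt⟩, (V x : Scheme.{u}).isoSpec.hom ⟨_, hx⟩, ?_⟩
      rw [← Scheme.Hom.comp_apply, Iso.hom_inv_id_assoc, Scheme.Hom.comp_apply]
      show eX ((inv eX) y) = y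
      rw [← Scheme.Hom.comp_apply, IsIso.inv_hom_id]
      rfl
  refine ⟨Γ(P, ⊤), inferInstance, inferInstance, ?_, ?_, ?_, ?_⟩
  · exact (HasRingHomProperty.Spec_iff (P := @Flat) (φ := ψ)).mp inferInstance
  · show IsOpen (Set.range (Spec.map ψ))
    rw [hπ, hrg]
    exact D.isOpenEmbedding.isOpen_range
  · show s ∈ Set.range (Spec.map ψ)
    rw [hπ, hrg]
    show s ∈ Set.range (PrimeSpectrum.comap (algebraMap R (Localization.Away b)))
    rw [PrimeSpectrum.localization_away_comap_range (Localization.Away b) b]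
    exact hsb
  let ρ : CommRingCat.of R₀ ⟶ Γ(P, ⊤) := (pullback.snd gU g₀).appTop
  have hρ : π ≫ g = Spec.map ρ ≫ g' := by
    simp only [π, g', Category.assoc, ← hgU, pullback.condition_assoc]
    rw [← cancel_epi P.isoSpec.hom, Iso.hom_inv_id_assoc, Scheme.isoSpec_hom_naturality_assoc,
      Iso.hom_inv_id_assoc]
  refine ⟨K.map ρ.hom, fun T _ φ ↦ ?_, fun hQ ↦ ?_⟩
  · have e : Spec.map (CommRingCat.ofHom (φ.comp (algebraMap R Γ(P, ⊤)))) ≫ g =
        Spec.map (CommRingCat.ofHom (φ.comp ρ.hom)) ≫ g' := by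
      rw [CommRingCat.ofHom_comp, CommRingCat.ofHom_comp, Spec.map_comp, Spec.map_comp,
        Category.assoc, Category.assoc]
      exact congrArg (Spec.map (CommRingCat.ofHom φ) ≫ ·) ((congrArg (· ≫ g) hπ).trans hρ)
    rw [e, hK]
    exact ⟨fun h r hr ↦ (Ideal.map_le_iff_le_comap.mpr fun a ha ↦ h a ha :
      K.map ρ.hom ≤ RingHom.ker φ) hr, fun h r hr ↦ h _ (Ideal.mem_map_of_mem _ hr)⟩
  · exact (hKfg ⟨Set.finite_coe_iff.mpr (hv₀.1 hQ.1), hQ.2⟩).map _

end Groth.SmoothWeil
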