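import Groth.Agent.SmoothWeil.Transporter
import Groth.Agent.Reductive.CentralDescent

/-!
Transporters and centralizers of smooth subschemes with geometrically connected fibres.
-/

set_option autoImplicit false
universe u

open CategoryTheory CategoryTheory.Limits MonoidalCategory CartesianMonoidalCategory MonObj GrpObj
  AlgebraicGeometry

noncomputable section

namespace Groth.SmoothWeil

variable {S : Scheme.{u}} {G Y : Over S}

/-- A condition on pairs of points given by a closed subscheme of `Y × G` holds on a closed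
subscheme of `G`. -/
theorem exists_subschemeLocus [Smooth Y.hom] [GeometricallyIrreducible Y.hom] {Y₀ : Over S}
    (e : Y₀ ⟶ famS G Y) [IsClosedImmersion e.left]
    (Q : ∀ (Z : Over S), (Z ⟶ G) → (Z ⟶ Y) → Prop)
    (he : ∀ (Z : Over S) (p : Z ⟶ famS G Y),
      (∃ y : Z ⟶ Y₀, y ≫ e = p) ↔ Q Z (p ≫ qG G Y) (p ≫ qH G Y)) :
    ∃ (T : Over S) (t : T ⟶ G), IsClosedImmersion t.left ∧
      (LocallyOfFinitePresentation e.left → LocallyOfFinitePresentation t.left) ∧
      ∀ (Z : Over S) (g : Z ⟶ G), (∃ z : Z ⟶ T, z ≫ t = g) ↔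
        ∀ (Z' : Over S) (x : Z' ⟶ Z) (h : Z' ⟶ Y), Q Z' (x ≫ g) h := by
  let X : Over G.left := (Over.pullback G.hom).obj Y
  haveI : Smooth X.hom := MorphismProperty.pullback_snd _ _ ‹_›
  haveI : GeometricallyIrreducible X.hom :=
    inferInstanceAs (GeometricallyIrreducible (pullback.snd Y.hom G.hom))
  obtain ⟨T, t, ht, hT, hfp⟩ := exists_weilLocus X.hom e.left
  refine ⟨Over.mk (t ≫ G.hom), Over.homMk t rfl, ht, hfp, fun Z g ↦ ?_⟩
  refine Iff.trans (b := ∃ g' : Z.left ⟶ T, g' ≫ t = g.left) ?_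
    ((hT Z.left g.left).trans (factors_iff_forall e Q he Z g))
  constructor
  · rintro ⟨z, hz⟩
    exact ⟨z.left, congrArg CommaMorphism.left hz⟩
  · rintro ⟨z, hz⟩
    exact ⟨Over.homMk z (by show z ≫ t ≫ G.hom = Z.hom; rw [reassoc_of% hz, Over.w g]),
      Over.OverMorphism.ext hz⟩

variable [GrpObj G] [Smooth Y.hom] [GeometricallyIrreducible Y.hom] (y : Y ⟶ G)

/-- The transporter of a smooth subscheme into a closed subscheme. -/
theorem exists_transporterSub {Y' : Over S} (y' : Y' ⟶ G) [IsClosedImmersion y'.left] :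
    ∃ (T : Over S) (t : T ⟶ G), IsClosedImmersion t.left ∧
      (LocallyOfFinitePresentation y'.left → LocallyOfFinitePresentation t.left) ∧
      ∀ (Z : Over S) (g : Z ⟶ G), (∃ z : Z ⟶ T, z ≫ t = g) ↔
        ∀ (Z' : Over S) (x : Z' ⟶ Z) (h : Z' ⟶ Y),
          ∃ a : Z' ⟶ Y', (x ≫ g) * (h ≫ y) * (x ≫ g)⁻¹ = a ≫ y' := by
  let c : famS G Y ⟶ G := qG G Y * (qH G Y ≫ y) * (qG G Y)⁻¹
  let Y₀ : Over S := Over.mk (pullback.fst c.left y'.left ≫ (famS G Y).hom)
  let e : Y₀ ⟶ famS G Y := Over.homMk (pullback.fst c.left y'.left) rfl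
  haveI : IsClosedImmersion e.left := inferInstanceAs (IsClosedImmersion (pullback.fst c.left y'.left))
  obtain ⟨T, t, ht, hfp, hT⟩ := exists_subschemeLocus e
    (fun Z g h ↦ ∃ κ : Z ⟶ Y', g * (h ≫ y) * g⁻¹ = κ ≫ y') fun Z p ↦ by
    have hc : p ≫ c = (p ≫ qG G Y) * ((p ≫ qH G Y) ≫ y) * (p ≫ qG G Y)⁻¹ := by
      simp only [c, MonObj.comp_mul, GrpObj.comp_inv, Category.assoc]
    rw [← hc]
    constructor
    · rintro ⟨z, rfl⟩
      have hw : (z.left ≫ pullback.snd c.left y'.left) ≫ y'.left = z.left ≫ e.left ≫ c.left := by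
        rw [Category.assoc, ← pullback.condition]; rfl
      refine ⟨Over.homMk (z.left ≫ pullback.snd c.left y'.left) ?_, Over.OverMorphism.ext hw.symm⟩
      rw [← Over.w y', ← Category.assoc, hw, Category.assoc, Category.assoc, Over.w c]
      exact (congrArg (z.left ≫ ·) (Over.w e)).trans (Over.w z)
    · rintro ⟨κ, hκ⟩
      refine ⟨Over.homMk (pullback.lift p.left κ.left (congrArg CommaMorphism.left hκ)) ?_,
        Over.OverMorphism.ext (pullback.lift_fst _ _ _)⟩
      show _ ≫ pullback.fst c.left y'.left ≫ (famS G Y).hom = _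
      rw [pullback.lift_fst_assoc, Over.w p]
  exact ⟨T, t, ht, fun h ↦ hfp (MorphismProperty.pullback_fst _ _ h), hT⟩

/-- The centralizer of a smooth subscheme in a separated group. -/
theorem exists_centralizerSub [IsSeparated G.hom] :
    ∃ (T : Over S) (t : T ⟶ G), IsClosedImmersion t.left ∧
      ∀ (Z : Over S) (g : Z ⟶ G), (∃ z : Z ⟶ T, z ≫ t = g) ↔
        ∀ (Z' : Over S) (x : Z' ⟶ Z) (h : Z' ⟶ Y), (x ≫ g) * (h ≫ y) = (h ≫ y) * (x ≫ g) := by
  let a : famS G Y ⟶ G := qG G Y * (qH G Y ≫ y)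
  let b : famS G Y ⟶ G := (qH G Y ≫ y) * qG G Y
  let q := pullback.lift (f := G.hom) (g := G.hom) a.left b.left (by rw [Over.w, Over.w])
  let Y₀ : Over S := Over.mk (pullback.fst q (pullback.diagonal G.hom) ≫ (famS G Y).hom)
  let e : Y₀ ⟶ famS G Y := Over.homMk (pullback.fst q (pullback.diagonal G.hom)) rfl
  haveI : IsClosedImmersion e.left :=
    inferInstanceAs (IsClosedImmersion (pullback.fst q (pullback.diagonal G.hom)))
  obtain ⟨T, t, ht, -, hT⟩ := exists_subschemeLocus e (fun Z g h ↦ g * (h ≫ y) = (h ≫ y) * g)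
    fun Z p ↦ by
    have ha : p ≫ a = (p ≫ qG G Y) * ((p ≫ qH G Y) ≫ y) := by
      simp only [a, MonObj.comp_mul, Category.assoc]
    have hb : p ≫ b = ((p ≫ qH G Y) ≫ y) * (p ≫ qG G Y) := by
      simp only [b, MonObj.comp_mul, Category.assoc]
    rw [← ha, ← hb]
    constructor
    · rintro ⟨z, rfl⟩
      rw [Category.assoc, Category.assoc]
      congr 1
      refine Over.OverMorphism.ext ?_
      have h1 := congrArg (fun z ↦ z ≫ pullback.fst G.hom G.hom)
        (pullback.condition (f := q) (g := pullback.diagonal G.hom))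
      have h2 := congrArg (fun z ↦ z ≫ pullback.snd G.hom G.hom)
        (pullback.condition (f := q) (g := pullback.diagonal G.hom))
      simp only [q, Category.assoc, pullback.lift_fst, pullback.lift_snd, pullback.diagonal_fst,
        pullback.diagonal_snd, Category.comp_id] at h1 h2
      exact h1.trans h2.symm
    · intro h
      let l := pullback.lift (f := q) (g := pullback.diagonal G.hom) p.left (p ≫ a).left (by
        apply pullback.hom_ext
        · simp only [q, Category.assoc, pullback.lift_fst, pullback.diagonal_fst, Category.comp_id,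
            Over.comp_left]
        · simp only [q, Category.assoc, pullback.lift_snd, pullback.diagonal_snd, Category.comp_id]
          rw [← Over.comp_left, h])
      exact ⟨Over.homMk l (by
        show l ≫ pullback.fst _ _ ≫ _ = _
        rw [pullback.lift_fst_assoc, Over.w]), Over.OverMorphism.ext (pullback.lift_fst _ _ _)⟩
  exact ⟨T, t, ht, hT⟩

end Groth.SmoothWeil
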