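import Groth.Agent.SmoothWeil.Section
import Groth.Agent.SmoothWeil.Geom

/-!
The ideal of the base cut out by an ideal of a smooth algebra with a section and geometrically
irreducible fibres.
-/

set_option autoImplicit false
universe u

open CategoryTheory CategoryTheory.Limits AlgebraicGeometry TensorProduct

noncomputable section

namespace Groth.SmoothWeil

variable {R B : Type u} [CommRing R] [CommRing B] [Algebra R B]

/-- The level `n` coefficient ideal. -/
def levelIdeal (e : B →ₐ[R] R) (J : Ideal B) (n : ℕ) : Ideal R :=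
  coeffSpan ((Ideal.Quotient.mk (RingHom.ker e ^ n)) '' (J : Set B))

/-- The ideal of the base cut out by `J`. -/
def sectionIdeal (e : B →ₐ[R] R) (J : Ideal B) : Ideal R :=
  ⨆ n, levelIdeal e J n

/-- An element of a base change dies in a quotient by a smaller ideal. -/
lemma tmul_mk_mono {I I' : Ideal B} (h : I ≤ I') {R' : Type u} [CommRing R'] [Algebra R R'] {x : B}
    (hx : (1 : R') ⊗ₜ[R] Ideal.Quotient.mk I x = 0) :
    (1 : R') ⊗ₜ[R] Ideal.Quotient.mk I' x = 0 := by
  have := congrArg (Algebra.TensorProduct.map (AlgHom.id R R') (Ideal.Quotient.factorₐ R h)) hx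
  simpa using this

variable [Algebra.Smooth R B]

theorem forall_level_iff (e : B →ₐ[R] R) (J : Ideal B) (n : ℕ) (R' : Type u) [CommRing R']
    [Algebra R R'] :
    (∀ x ∈ J, (1 : R') ⊗ₜ[R] Ideal.Quotient.mk (RingHom.ker e ^ n) x = 0) ↔
      levelIdeal e J n ≤ RingHom.ker (algebraMap R R') := by
  haveI := (projective_quotient_pow e n).1
  refine Iff.trans ?_ (forall_tmul_eq_zero_iff _ R')
  exact ⟨fun h _ ⟨x, hx, hxy⟩ ↦ hxy ▸ h x hx, fun h x hx ↦ h _ ⟨x, hx, rfl⟩⟩

theorem levelIdeal_mono (e : B →ₐ[R] R) (J : Ideal B) {m n : ℕ} (h : m ≤ n) :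
    levelIdeal e J m ≤ levelIdeal e J n := by
  have h1 := (forall_level_iff e J n (R ⧸ levelIdeal e J n)).mpr
    (by rw [Ideal.Quotient.algebraMap_eq, Ideal.mk_ker])
  have h2 := (forall_level_iff e J m (R ⧸ levelIdeal e J n)).mp
    fun x hx ↦ tmul_mk_mono (Ideal.pow_le_pow_right h) (h1 x hx)
  rwa [Ideal.Quotient.algebraMap_eq, Ideal.mk_ker] at h2

/-- The base change of a section. -/
def bcSection (e : B →ₐ[R] R) (R' : Type u) [CommRing R'] [Algebra R R'] : R' ⊗[R] B →ₐ[R'] R' :=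
  Algebra.TensorProduct.lift (AlgHom.id R' R') ((Algebra.ofId R R').comp e)
    fun _ _ ↦ Commute.all _ _

omit [Algebra.Smooth R B] in
lemma bcSection_tmul (e : B →ₐ[R] R) {R' : Type u} [CommRing R'] [Algebra R R'] (r : R') (b : B) :
    bcSection e R' (r ⊗ₜ b) = r * algebraMap R R' (e b) := by
  simp [bcSection, Algebra.ofId]

omit [Algebra.Smooth R B] in
lemma ker_bcSection (e : B →ₐ[R] R) (R' : Type u) [CommRing R'] [Algebra R R'] :
    RingHom.ker (bcSection e R') =
      (RingHom.ker e).map (Algebra.TensorProduct.includeRight : B →ₐ[R] R' ⊗[R] B) := by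
  refine le_antisymm (fun z hz ↦ ?_) ?_
  · suffices key : ∀ y : R' ⊗[R] B, y - bcSection e R' y ⊗ₜ[R] (1 : B) ∈
        (RingHom.ker e).map (Algebra.TensorProduct.includeRight : B →ₐ[R] R' ⊗[R] B) by
      simpa [show bcSection e R' z = 0 from hz] using key z
    intro y
    induction y using TensorProduct.induction_on with
    | zero => simp
    | tmul r b =>
      have hb : r ⊗ₜ[R] b - bcSection e R' (r ⊗ₜ b) ⊗ₜ[R] (1 : B) =
          (r ⊗ₜ[R] (1 : B)) * ((1 : R') ⊗ₜ[R] (b - algebraMap R B (e b))) := by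
        rw [bcSection_tmul, Algebra.TensorProduct.tmul_mul_tmul, _root_.mul_one, _root_.one_mul,
          TensorProduct.tmul_sub, Algebra.algebraMap_eq_smul_one, Algebra.algebraMap_eq_smul_one,
          mul_smul_comm, _root_.mul_one, TensorProduct.smul_tmul]
      rw [hb]
      exact Ideal.mul_mem_left _ _ (Ideal.mem_map_of_mem _ (by simp))
    | add x y hx hy =>
      rw [map_add, TensorProduct.add_tmul, add_sub_add_comm]
      exact Ideal.add_mem _ hx hy
  · rw [Ideal.map_le_iff_le_comap]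
    intro b hb
    show bcSection e R' (1 ⊗ₜ b) = 0
    rw [bcSection_tmul, show e b = 0 from hb, map_zero, MulZeroClass.mul_zero]

/-- The levels vanish iff `J` vanishes near the section. -/
theorem sectionIdeal_le_iff (e : B →ₐ[R] R) (J : Ideal B) (R' : Type u) [CommRing R'] [Algebra R R'] :
    sectionIdeal e J ≤ RingHom.ker (algebraMap R R') ↔
      ∀ x ∈ J, ∃ t ∈ RingHom.ker (bcSection e R'), t * ((1 : R') ⊗ₜ[R] x) = (1 : R') ⊗ₜ[R] x := by
  rw [sectionIdeal, iSup_le_iff]
  have hker : ∀ n, RingHom.ker (Algebra.TensorProduct.map (AlgHom.id R R')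
      (Ideal.Quotient.mkₐ R (RingHom.ker e ^ n))) = RingHom.ker (bcSection e R') ^ n := fun n ↦ by
    rw [Algebra.TensorProduct.lTensor_ker _ Ideal.Quotient.mk_surjective,
      show RingHom.ker (Ideal.Quotient.mkₐ R (RingHom.ker e ^ n)) = RingHom.ker e ^ n from
        Ideal.Quotient.mkₐ_ker R _, Ideal.map_pow, ← ker_bcSection]
  constructor
  · intro h x hx
    refine exists_mul_eq_self (bcSection e R') _ fun n ↦ ?_
    rw [← hker, RingHom.mem_ker]
    simpa using (forall_level_iff e J n R').mpr (h n) x hx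
  · intro h n
    refine (forall_level_iff e J n R').mp fun x hx ↦ ?_
    obtain ⟨t, ht, htx⟩ := h x hx
    have hpow : ∀ m, (1 : R') ⊗ₜ[R] x = t ^ m * ((1 : R') ⊗ₜ[R] x) := by
      intro m
      induction m with
      | zero => simp
      | succ m ih => rw [pow_succ, _root_.mul_assoc, htx]; exact ih
    have hmem : (1 : R') ⊗ₜ[R] x ∈ RingHom.ker (Algebra.TensorProduct.map (AlgHom.id R R')
        (Ideal.Quotient.mkₐ R (RingHom.ker e ^ n))) := by
      rw [hker, hpow n]
      exact Ideal.mul_mem_right _ _ (Ideal.pow_mem_pow ht n)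
    simpa using hmem

theorem sectionIdeal_fg (e : B →ₐ[R] R) {J : Ideal B} (hJ : J.FG) : (sectionIdeal e J).FG := by
  classical
  obtain ⟨s, hs⟩ := hJ
  set K := sectionIdeal e J
  have hmem : ∀ x ∈ s, ∃ (F : Finset R) (t : B), (∀ r ∈ F, r ∈ K) ∧ e t = 0 ∧
      x - t * x ∈ (Ideal.span (F : Set R)).map (algebraMap R B) := by
    intro x hx
    obtain ⟨t', ht', htx⟩ := (sectionIdeal_le_iff e J (R ⧸ K)).mp
      (by rw [Ideal.Quotient.algebraMap_eq, Ideal.mk_ker]) x (hs ▸ Ideal.subset_span hx)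
    obtain ⟨t, rfl⟩ : ∃ t : B, (1 : R ⧸ K) ⊗ₜ[R] t = t' := by
      clear ht' htx
      induction t' using TensorProduct.induction_on with
      | zero => exact ⟨0, by simp⟩
      | tmul a b =>
        obtain ⟨r, rfl⟩ := Ideal.Quotient.mk_surjective a
        refine ⟨r • b, ?_⟩
        rw [← TensorProduct.smul_tmul, Algebra.smul_def, _root_.mul_one]
        rfl
      | add a b ha hb =>
        obtain ⟨a', rfl⟩ := ha
        obtain ⟨b', rfl⟩ := hb
        exact ⟨a' + b', TensorProduct.tmul_add _ _ _⟩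
    have het : e t ∈ K := by
      rw [RingHom.mem_ker, bcSection_tmul, _root_.one_mul, Ideal.Quotient.algebraMap_eq] at ht'
      exact Ideal.Quotient.eq_zero_iff_mem.mp ht'
    have h1 : x - t * x ∈ K.map (algebraMap R B) := by
      refine Ideal.Quotient.eq_zero_iff_mem.mp
        ((Algebra.TensorProduct.quotIdealMapEquivTensorQuot B K).injective ?_)
      rw [map_zero, Algebra.TensorProduct.quotIdealMapEquivTensorQuot_mk]
      apply (TensorProduct.comm R B (R ⧸ K)).injective
      rw [TensorProduct.comm_tmul, map_zero, TensorProduct.tmul_sub, sub_eq_zero]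
      rw [← htx, Algebra.TensorProduct.tmul_mul_tmul, _root_.one_mul]
    have h2 : x - (t - algebraMap R B (e t)) * x ∈ K.map (algebraMap R B) := by
      rw [show x - (t - algebraMap R B (e t)) * x = (x - t * x) + algebraMap R B (e t) * x by ring]
      exact add_mem h1 (Ideal.mul_mem_right _ _ (Ideal.mem_map_of_mem _ het))
    have hK : K = ⨆ r : K, Ideal.span {(r : R)} := by
      refine le_antisymm (fun r hr ↦ Ideal.mem_iSup_of_mem (S := fun r : K ↦ Ideal.span {(r : R)})
        ⟨r, hr⟩ (Ideal.subset_span rfl))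
        (iSup_le fun r ↦ (Ideal.span_singleton_le_iff_mem _).mpr r.2)
    rw [hK, Ideal.map_iSup, Submodule.mem_iSup_iff_exists_finset] at h2
    obtain ⟨F, hF⟩ := h2
    refine ⟨F.image Subtype.val, t - algebraMap R B (e t), fun r hr ↦ ?_, by simp, ?_⟩
    · obtain ⟨r, -, rfl⟩ := Finset.mem_image.mp hr; exact r.2
    · refine (iSup₂_le fun r hr ↦ ?_ : _ ≤ (Ideal.span _).map (algebraMap R B)) hF
      exact Ideal.map_mono (Ideal.span_mono (by simpa using Finset.mem_image_of_mem Subtype.val hr))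
  choose F t hF1 ht hF2 using hmem
  let T : Finset R := s.attach.biUnion fun x ↦ F x.1 x.2
  refine ⟨T, le_antisymm (Ideal.span_le.mpr fun r hr ↦ ?_) ?_⟩
  · obtain ⟨x, -, hx⟩ := Finset.mem_biUnion.mp hr
    exact hF1 x.1 x.2 r hx
  set K' := Ideal.span (T : Set R)
  suffices h : sectionIdeal e (Ideal.span (s : Set B)) ≤ RingHom.ker (algebraMap R (R ⧸ K')) by
    rw [Ideal.Quotient.algebraMap_eq, Ideal.mk_ker] at h
    have hs' : Ideal.span (s : Set B) = J := hs
    rwa [hs'] at h
  rw [sectionIdeal, iSup_le_iff]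
  intro n
  refine (forall_level_iff e _ n _).mp fun x hx ↦ ?_
  have key : ∀ x ∈ s, (1 : R ⧸ K') ⊗ₜ[R] Ideal.Quotient.mk (RingHom.ker e ^ n) x = 0 := by
    intro x hx
    have h0 : (1 : R ⧸ K') ⊗ₜ[R] (x - t x hx * x) = (0 : (R ⧸ K') ⊗[R] B) := by
      apply (TensorProduct.comm R (R ⧸ K') B).injective
      rw [map_zero, TensorProduct.comm_tmul,
        ← Algebra.TensorProduct.quotIdealMapEquivTensorQuot_mk B K', Ideal.Quotient.eq_zero_iff_mem.mpr
          (Ideal.map_mono (Ideal.span_mono fun r hr ↦ Finset.mem_biUnion.mpr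
            ⟨⟨x, hx⟩, Finset.mem_attach _ _, hr⟩) (hF2 x hx)), map_zero]
    have hfix : (1 : R ⧸ K') ⊗ₜ[R] Ideal.Quotient.mk (RingHom.ker e ^ n) x =
        ((1 : R ⧸ K') ⊗ₜ[R] Ideal.Quotient.mk (RingHom.ker e ^ n) (t x hx)) *
          ((1 : R ⧸ K') ⊗ₜ[R] Ideal.Quotient.mk (RingHom.ker e ^ n) x) := by
      have := congrArg (Algebra.TensorProduct.map (AlgHom.id R (R ⧸ K'))
        (Ideal.Quotient.mkₐ R (RingHom.ker e ^ n))) h0
      simpa [TensorProduct.tmul_sub, sub_eq_zero] using this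
    have hpow : ∀ m, (1 : R ⧸ K') ⊗ₜ[R] Ideal.Quotient.mk (RingHom.ker e ^ n) x =
        ((1 : R ⧸ K') ⊗ₜ[R] Ideal.Quotient.mk (RingHom.ker e ^ n) (t x hx ^ m * x)) := by
      intro m
      induction m with
      | zero => simp
      | succ m ih =>
        rw [hfix, pow_succ, _root_.mul_comm _ (t x hx), _root_.mul_assoc, map_mul _ (t x hx)]
        conv_lhs => rw [ih]
        rw [Algebra.TensorProduct.tmul_mul_tmul, _root_.one_mul]
    rw [hpow n, Ideal.Quotient.eq_zero_iff_mem.mpr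
      (Ideal.mul_mem_right _ _ (Ideal.pow_mem_pow (ht x hx) n)), TensorProduct.tmul_zero]
  refine Submodule.span_induction key (by simp) ?_ ?_ hx
  · intro a b _ _ ha hb
    rw [map_add, TensorProduct.tmul_add, ha, hb, _root_.add_zero]
  · intro r a _ ha
    rw [smul_eq_mul, map_mul, show (1 : R ⧸ K') ⊗ₜ[R] (Ideal.Quotient.mk (RingHom.ker e ^ n) r *
        Ideal.Quotient.mk (RingHom.ker e ^ n) a) = ((1 : R ⧸ K') ⊗ₜ[R] Ideal.Quotient.mk _ r) *
          ((1 : R ⧸ K') ⊗ₜ[R] Ideal.Quotient.mk _ a) by simp, ha, MulZeroClass.mul_zero]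

/-- One level suffices for a finitely generated ideal. -/
theorem exists_level (e : B →ₐ[R] R) {J : Ideal B} (hJ : J.FG) :
    ∃ n, sectionIdeal e J ≤ levelIdeal e J (n + 1) := by
  have hdir : Directed (· ≤ ·) (levelIdeal e J) := fun a b ↦
    ⟨max a b, levelIdeal_mono e J (le_max_left a b), levelIdeal_mono e J (le_max_right a b)⟩
  obtain ⟨s, hs⟩ := sectionIdeal_fg e hJ
  have : ∀ r ∈ s, ∃ n, r ∈ levelIdeal e J n := fun r hr ↦
    (Submodule.mem_iSup_of_directed _ hdir).mp (hs ▸ Ideal.subset_span hr : r ∈ sectionIdeal e J)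
  choose n hn using this
  refine ⟨s.attach.sup fun r ↦ n r.1 r.2, ?_⟩
  rw [← hs, Ideal.span_le]
  intro r hr
  exact levelIdeal_mono e J ((Finset.le_sup (f := fun r : s ↦ n r.1 r.2)
    (Finset.mem_attach s ⟨r, hr⟩)).trans (Nat.le_succ _)) (hn r hr)

variable [GeometricallyIrreducible (Spec.map (CommRingCat.ofHom (algebraMap R B)))]

/-- A fibrewise dense condition: vanishing near the section is vanishing. -/
theorem tmul_eq_zero_of_fixed (e : B →ₐ[R] R) {R' : Type u} [CommRing R'] [Algebra R R'] (x : B)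
    (t : R' ⊗[R] B) (ht : t ∈ RingHom.ker (bcSection e R'))
    (htx : t * ((1 : R') ⊗ₜ[R] x) = (1 : R') ⊗ₜ[R] x) :
    (1 : R') ⊗ₜ[R] x = (0 : R' ⊗[R] B) := by
  let e' := bcSection e R'
  let T := R' ⊗[R] B
  let fT : Spec (CommRingCat.of T) ⟶ Spec (CommRingCat.of R') :=
    Spec.map (CommRingCat.ofHom (algebraMap R' T))
  haveI : Smooth fT := (HasRingHomProperty.Spec_iff (P := @Smooth)).mpr
    (RingHom.smooth_algebraMap.mpr inferInstance)
  haveI : GeometricallyIrreducible fT := MorphismProperty.of_isPullback (P := @GeometricallyIrreducible)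
    (isPullback_SpecMap_of_isPushout _ _ _ _
      (CommRingCat.isPushout_tensorProduct R R' B).flip) ‹_›
  have hD := isSchematicallyDense_of_surjective fT (PrimeSpectrum.basicOpen (1 - t)) fun p ↦
    ⟨PrimeSpectrum.comap e'.toRingHom p, (by
      intro hmem'
      have : e' (1 - t) ∈ p.asIdeal := hmem'
      rw [map_sub, map_one, show e' t = 0 from ht, _root_.sub_zero] at this
      exact p.isPrime.ne_top ((Ideal.eq_top_iff_one _).mpr this)), by
      refine PrimeSpectrum.ext (Ideal.ext fun r ↦ ?_)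
      show e' (algebraMap R' T r) ∈ p.asIdeal ↔ r ∈ p.asIdeal
      rw [AlgHom.commutes]
      rfl⟩
  apply (Scheme.ΓSpecIso (CommRingCat.of T)).commRingCatIsoToRingEquiv.symm.injective
  rw [map_zero]
  refine hD ⊤ ?_
  rw [map_zero]
  set ρ := ((Scheme.ΓSpecIso (CommRingCat.of T)).inv ≫ (Spec (CommRingCat.of T)).presheaf.map
    (homOfLE (inf_le_left : ⊤ ⊓ PrimeSpectrum.basicOpen (1 - t) ≤ ⊤)).op).hom with hρ
  show ρ ((1 : R') ⊗ₜ[R] x) = 0
  have hu : IsUnit (ρ (1 - t)) := by
    refine RingedSpace.isUnit_of_isUnit_germ _ _ _ fun y hy ↦ ?_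
    rw [hρ, CommRingCat.hom_comp, RingHom.comp_apply]
    erw [TopCat.Presheaf.germ_res_apply]
    refine ((Spec (CommRingCat.of T)).mem_basicOpen _ y _).mp ?_
    erw [basicOpen_eq_of_affine]
    exact hy.2
  refine hu.mul_right_eq_zero.mp ?_
  rw [← map_mul, _root_.sub_mul, _root_.one_mul, htx, sub_self, map_zero]

/-- The ideal of the base cut out by `J`. -/
theorem forall_tmul_iff (e : B →ₐ[R] R) (J : Ideal B) (R' : Type u) [CommRing R'] [Algebra R R'] :
    (∀ x ∈ J, (1 : R') ⊗ₜ[R] x = (0 : R' ⊗[R] B)) ↔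
      sectionIdeal e J ≤ RingHom.ker (algebraMap R R') := by
  rw [sectionIdeal_le_iff]
  exact ⟨fun h x hx ↦ ⟨0, Submodule.zero_mem _, by rw [h x hx, MulZeroClass.mul_zero]⟩,
    fun h x hx ↦ (h x hx).elim fun t ht ↦ tmul_eq_zero_of_fixed e x t ht.1 ht.2⟩

end Groth.SmoothWeil
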