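import Groth.Agent.Reductive.MTIntegral

/-!
Descent of ideals along finite faithfully flat families.
-/

set_option autoImplicit false
universe u

open TensorProduct

noncomputable section

namespace Groth.SmoothWeil

variable {R : Type u} [CommRing R] {ι : Type u} [Fintype ι] {A : ι → Type u} [∀ i, CommRing (A i)]
  [∀ i, Algebra R (A i)]

/-- A compatible family of ideals on a faithfully flat family comes from an ideal of the base. -/
theorem exists_descend_ideal [hflat : ∀ i, Module.Flat R (A i)] (K : ∀ i, Ideal (A i))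
    (hK : ∀ i j, (K i).map (Algebra.TensorProduct.includeLeft : A i →ₐ[R] A i ⊗[R] A j) =
      (K j).map (Algebra.TensorProduct.includeRight : A j →ₐ[R] A i ⊗[R] A j)) :
    ∃ K₀ : Ideal R, ∀ i, K₀.map (algebraMap R (A i)) = K i := by
  classical
  let K₀ : Ideal R := ⨅ i, (K i).comap (algebraMap R (A i))
  refine ⟨K₀, fun i ↦ le_antisymm (Ideal.map_le_iff_le_comap.mpr (iInf_le _ i)) fun x hx ↦ ?_⟩
  let d : (R ⧸ K₀) →ₗ[R] ∀ j, A j ⧸ K j := LinearMap.pi fun j ↦
    (Ideal.Quotient.liftₐ K₀ (Algebra.ofId R (A j ⧸ K j)) fun r hr ↦ by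
      show Ideal.Quotient.mk (K j) (algebraMap R (A j) r) = 0
      exact Ideal.Quotient.eq_zero_iff_mem.mpr ((iInf_le _ j : K₀ ≤ _) hr)).toLinearMap
  have hd : Function.Injective d := by
    rw [injective_iff_map_eq_zero]
    intro z hz
    obtain ⟨r, rfl⟩ := Ideal.Quotient.mk_surjective z
    refine Ideal.Quotient.eq_zero_iff_mem.mpr (Ideal.mem_iInf.mpr fun j ↦ ?_)
    show algebraMap R (A j) r ∈ K j
    exact Ideal.Quotient.eq_zero_iff_mem.mp (congr_fun hz j)
  have hinj := Module.Flat.lTensor_preserves_injective_linearMap (M := A i) d hd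
  have h0 : x ⊗ₜ[R] (1 : R ⧸ K₀) = 0 := by
    apply hinj
    rw [map_zero, LinearMap.lTensor_tmul]
    apply (TensorProduct.piRight R R (A i) (fun j ↦ A j ⧸ K j)).injective
    rw [map_zero]
    funext j
    rw [TensorProduct.piRight_apply, TensorProduct.piRightHom_tmul]
    show x ⊗ₜ[R] d 1 j = 0
    have h1 : d 1 j = 1 := map_one (Ideal.Quotient.mk (K j) |>.comp (algebraMap R (A j)))
    rw [h1]
    let p : A i ⊗[R] A j →ₐ[R] A i ⊗[R] (A j ⧸ K j) :=
      Algebra.TensorProduct.map (AlgHom.id R (A i)) (Ideal.Quotient.mkₐ R (K j))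
    have hle : (K i).map (Algebra.TensorProduct.includeLeft : A i →ₐ[R] A i ⊗[R] A j) ≤
        RingHom.ker p := by
      rw [hK, Ideal.map_le_iff_le_comap]
      intro y hy
      show p (1 ⊗ₜ y) = 0
      simp [p, Ideal.Quotient.eq_zero_iff_mem.mpr hy]
    have h2 : p (x ⊗ₜ 1) = 0 := hle (Ideal.mem_map_of_mem _ hx)
    simpa [p] using h2
  refine Ideal.Quotient.eq_zero_iff_mem.mp
    ((Algebra.TensorProduct.quotIdealMapEquivTensorQuot (A i) K₀).injective ?_)
  rw [map_zero, Algebra.TensorProduct.quotIdealMapEquivTensorQuot_mk]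
  exact h0

/-- An ideal is killed by an algebra iff its extensions are killed on a faithfully flat family. -/
theorem le_ker_of_cover [Module.FaithfullyFlat R (∀ i, A i)] (K₀ : Ideal R) (R' : Type u)
    [CommRing R'] [Algebra R R']
    (h : ∀ i, (K₀.map (algebraMap R (A i))) ≤
      RingHom.ker (Algebra.TensorProduct.includeLeft : A i →ₐ[R] A i ⊗[R] R')) :
    ∀ r ∈ K₀, algebraMap R R' r = 0 := fun r hr ↦
  Groth.Sga3.MultType.eq_zero_of_cover (R := R) A fun i ↦ by
    have := h i (Ideal.mem_map_of_mem _ hr)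
    rw [RingHom.mem_ker] at this
    rw [Algebra.algebraMap_eq_smul_one, ← TensorProduct.smul_tmul, ← Algebra.algebraMap_eq_smul_one]
    exact this

end Groth.SmoothWeil
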