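import Groth.Agent.SmoothWeil.Core
import Groth.Agent.SmoothWeil.Descent
import Groth.Agent.Reductive.MTFactor
import Groth.Agent.SmoothSlice.Sections
import Groth.Agent.Flatmor4.ThickFT

/-!
Weil restriction of a closed subscheme along a smooth morphism with geometrically irreducible
fibres.
-/

set_option autoImplicit false
universe u

open CategoryTheory CategoryTheory.Limits AlgebraicGeometry TensorProduct

noncomputable section

namespace Groth.SmoothWeil

variable {S X Y : Scheme.{u}} (f : X ⟶ S) (j : Y ⟶ X)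

/-- The base change of `X` along `g` maps into `Y`. -/
def Factors {S' : Scheme.{u}} (g : S' ⟶ S) : Prop :=
  ∃ l : pullback f g ⟶ Y, l ≫ j = pullback.fst f g

variable {f j}

lemma Factors.comp {S' S'' : Scheme.{u}} {g : S' ⟶ S} (h : Factors f j g) (a : S'' ⟶ S') :
    Factors f j (a ≫ g) := by
  obtain ⟨l, hl⟩ := h
  exact ⟨pullback.lift (f := f) (g := g) (pullback.fst f (a ≫ g)) (pullback.snd f (a ≫ g) ≫ a)
    (by rw [Category.assoc]; exact pullback.condition) ≫ l, by
      rw [Category.assoc, hl, pullback.lift_fst]⟩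

lemma Factors.of_openCover [Mono j] {S' : Scheme.{u}} {g : S' ⟶ S} (𝒰 : S'.OpenCover)
    (h : ∀ x, Factors f j (𝒰.f x ≫ g)) : Factors f j g :=
  Groth.Reductive.MTInt.exists_glue_of_mono (𝒰.pullback₁ (pullback.snd f g)) j (pullback.fst f g)
    fun x ↦ by
      obtain ⟨l, hl⟩ := h x
      refine ⟨pullback.lift (pullback.fst (pullback.snd f g) (𝒰.f x) ≫ pullback.fst f g)
        (pullback.snd (pullback.snd f g) (𝒰.f x)) (by
          rw [Category.assoc, pullback.condition]
          exact pullback.condition_assoc _) ≫ l, ?_⟩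
      rw [Category.assoc, hl]
      exact pullback.lift_fst _ _ _

lemma factors_iff_isIso [Mono j] {S' : Scheme.{u}} {g : S' ⟶ S} :
    Factors f j g ↔ IsIso (pullback.snd j (pullback.fst f g)) := by
  refine ⟨fun ⟨l, hl⟩ ↦ ?_, fun h ↦ ⟨inv (pullback.snd j (pullback.fst f g)) ≫ pullback.fst _ _, by
    rw [Category.assoc, pullback.condition, IsIso.inv_hom_id_assoc]⟩⟩
  refine ⟨⟨pullback.lift l (𝟙 _) (by rw [hl, Category.id_comp]), ?_, pullback.lift_snd _ _ _⟩⟩
  rw [← cancel_mono (pullback.snd j (pullback.fst f g)), Category.assoc, pullback.lift_snd,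
    Category.comp_id, Category.id_comp]

/-- The base change of a chart. -/
lemma isPullback_map {S' S'' : Scheme.{u}} (g : S' ⟶ S) (a : S'' ⟶ S') :
    IsPullback (pullback.lift (f := f) (g := g) (pullback.fst f (a ≫ g))
      (pullback.snd f (a ≫ g) ≫ a) (by rw [Category.assoc]; exact pullback.condition))
      (pullback.snd f (a ≫ g)) (pullback.snd f g) a := by
  refine IsPullback.of_right ?_ (pullback.lift_snd _ _ _) (IsPullback.of_hasPullback f g)
  rw [pullback.lift_fst]
  exact IsPullback.of_hasPullback f (a ≫ g)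

lemma Factors.of_fpqc [Mono j] {S' S'' : Scheme.{u}} {g : S' ⟶ S} (a : S'' ⟶ S')
    [Surjective a] [Flat a] [QuasiCompact a] (h : Factors f j (a ≫ g)) : Factors f j g := by
  rw [factors_iff_isIso] at h ⊢
  let q := pullback.lift (f := f) (g := g) (pullback.fst f (a ≫ g))
    (pullback.snd f (a ≫ g) ≫ a) (by rw [Category.assoc]; exact pullback.condition)
  have hq : q ≫ pullback.fst f g = pullback.fst f (a ≫ g) := pullback.lift_fst _ _ _
  have hQ : (@Surjective ⊓ @Flat ⊓ @QuasiCompact : MorphismProperty Scheme.{u}) q :=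
    ⟨⟨MorphismProperty.of_isPullback (P := @Surjective) (isPullback_map g a).flip ‹_›,
      MorphismProperty.of_isPullback (P := @Flat) (isPullback_map g a).flip ‹_›⟩,
      MorphismProperty.of_isPullback (P := @QuasiCompact) (isPullback_map g a).flip ‹_›⟩
  refine MorphismProperty.of_pullback_fst_of_descendsAlong (P := MorphismProperty.isomorphisms Scheme)
    (f := q) hQ ?_
  show IsIso _
  have sq := (IsPullback.of_hasPullback q (pullback.snd j (pullback.fst f g))).flip.paste_horiz
    (IsPullback.of_hasPullback j (pullback.fst f g))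
  rw [hq] at sq
  rw [← IsPullback.isoPullback_hom_snd sq]
  infer_instance

/-- A chart of the base change keeps its properties after a further base change. -/
lemma chart_bc (P : MorphismProperty Scheme.{u}) [P.IsStableUnderBaseChange] {T T' W W' : Scheme.{u}} {g : T ⟶ S} {ω : W ⟶ X} {π : W ⟶ T}
    (w : ω ≫ f = π ≫ g) (hP : P (pullback.lift ω π w)) {a : T' ⟶ T} {ω' : W' ⟶ W}
    {π' : W' ⟶ T'} (sq : IsPullback ω' π' π a) :
    P (pullback.lift (f := f) (g := a ≫ g) (ω' ≫ ω) π'
      (by rw [Category.assoc, w, sq.w_assoc])) := by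
  refine MorphismProperty.of_isPullback (P := P)
    (IsPullback.of_bot (h₁₁ := ω') ?_ ?_ (isPullback_map g a)) hP
  · rw [pullback.lift_snd, pullback.lift_snd]
    exact sq
  · apply pullback.hom_ext
    · rw [Category.assoc, Category.assoc, pullback.lift_fst, pullback.lift_fst]
      exact (pullback.lift_fst _ _ _).symm
    · simp only [Category.assoc, pullback.lift_snd, pullback.lift_snd_assoc]
      exact sq.w

/-- An open chart of the base change stays one after a further base change. -/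
lemma isOpenImmersion_bc {T T' W W' : Scheme.{u}} {g : T ⟶ S} {ω : W ⟶ X} {π : W ⟶ T}
    (w : ω ≫ f = π ≫ g) [h : IsOpenImmersion (pullback.lift ω π w)] {a : T' ⟶ T} {ω' : W' ⟶ W}
    {π' : W' ⟶ T'} (sq : IsPullback ω' π' π a) :
    IsOpenImmersion (pullback.lift (f := f) (g := a ≫ g) (ω' ≫ ω) π'
      (by rw [Category.assoc, w, sq.w_assoc])) :=
  chart_bc @IsOpenImmersion w h sq

section Chart

variable [Smooth f] [GeometricallyIrreducible f] [IsClosedImmersion j]

omit [GeometricallyIrreducible f] [IsClosedImmersion j] in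
lemma smooth_chart {R B : Type u} [CommRing R] [CommRing B] [Algebra R B]
    (g : Spec (CommRingCat.of R) ⟶ S) (ω : Spec (CommRingCat.of B) ⟶ X)
    (w : ω ≫ f = Spec.map (CommRingCat.ofHom (algebraMap R B)) ≫ g)
    [IsOpenImmersion (pullback.lift ω _ w)] : Algebra.Smooth R B := by
  haveI : Smooth (Spec.map (CommRingCat.ofHom (algebraMap R B))) := by
    rw [← pullback.lift_snd ω _ w]; infer_instance
  exact RingHom.smooth_algebraMap.mp ((HasRingHomProperty.Spec_iff (P := @Smooth)).mp this)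

variable (f j)

/-- The ideal of the locus on a chart with a section. -/
theorem exists_ideal_chart {R B : Type u} [CommRing R] [CommRing B] [Algebra R B]
    (g : Spec (CommRingCat.of R) ⟶ S) (ω : Spec (CommRingCat.of B) ⟶ X)
    (w : ω ≫ f = Spec.map (CommRingCat.ofHom (algebraMap R B)) ≫ g)
    [IsOpenImmersion (pullback.lift ω _ w)] (e : B →ₐ[R] R) :
    ∃ K : Ideal R, (∀ (T : Type u) [CommRing T] (φ : R →+* T),
        Factors f j (Spec.map (CommRingCat.ofHom φ) ≫ g) ↔ ∀ r ∈ K, φ r = 0) ∧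
      (LocallyOfFinitePresentation j → K.FG) := by
  haveI := smooth_chart g ω w
  have hsurj : ∀ {R' B' : Type u} [CommRing R'] [CommRing B'] [Algebra R' B'] (e' : B' →ₐ[R'] R'),
      Surjective (Spec.map (CommRingCat.ofHom (algebraMap R' B'))) := fun {R' B'} _ _ _ e' ↦
    ⟨fun p ↦ ⟨PrimeSpectrum.comap e'.toRingHom p, PrimeSpectrum.ext (Ideal.ext fun r ↦ by
      show e' (algebraMap R' B' r) ∈ p.asIdeal ↔ r ∈ p.asIdeal
      rw [AlgHom.commutes]
      rfl)⟩⟩
  haveI : GeometricallyIrreducible (Spec.map (CommRingCat.ofHom (algebraMap R B))) := by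
    haveI : Surjective (pullback.lift ω _ w ≫ pullback.snd f g) := by
      rw [pullback.lift_snd]; exact hsurj e
    have : GeometricallyIrreducible (pullback.lift ω _ w ≫ pullback.snd f g) := inferInstance
    rwa [pullback.lift_snd] at this
  obtain ⟨J, eI, heI⟩ := (IsClosedImmersion.Spec_iff (R := CommRingCat.of B)
    (f := pullback.fst ω j)).mp inferInstance
  refine ⟨sectionIdeal e J, fun T _ φ ↦ ?_, fun hfp ↦ sectionIdeal_fg e ?_⟩
  · letI : Algebra R T := φ.toAlgebra
    let B' := T ⊗[R] B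
    let ω' : Spec (CommRingCat.of B') ⟶ Spec (CommRingCat.of B) :=
      Spec.map (CommRingCat.ofHom (Algebra.TensorProduct.includeRight : B →ₐ[R] B').toRingHom)
    let π' : Spec (CommRingCat.of B') ⟶ Spec (CommRingCat.of T) :=
      Spec.map (CommRingCat.ofHom (algebraMap T B'))
    have sq : IsPullback ω' π' (Spec.map (CommRingCat.ofHom (algebraMap R B)))
        (Spec.map (CommRingCat.ofHom φ)) :=
      isPullback_SpecMap_of_isPushout _ _ _ _ (CommRingCat.isPushout_tensorProduct R T B).flip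
    let e' : B' →ₐ[T] T :=
      Algebra.TensorProduct.lift (AlgHom.id T T) ((Algebra.ofId R T).comp e)
        fun _ _ ↦ Commute.all _ _
    let m := pullback.lift (f := f) (g := Spec.map (CommRingCat.ofHom φ) ≫ g) (ω' ≫ ω) π'
      (by rw [Category.assoc, w, sq.w_assoc])
    haveI : IsOpenImmersion m := isOpenImmersion_bc w sq
    haveI : Surjective (m ≫ pullback.snd f (Spec.map (CommRingCat.ofHom φ) ≫ g)) := by
      rw [pullback.lift_snd]; exact hsurj e'
    refine Iff.trans (b := ∃ l, l ≫ j = ω' ≫ ω) ⟨fun ⟨l, hl⟩ ↦ ⟨m ≫ l, ?_⟩, fun ⟨l, hl⟩ ↦ ?_⟩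
      (Iff.trans ?_ (forall_tmul_iff e J T))
    · rw [Category.assoc, hl]; exact pullback.lift_fst _ _ _
    · exact exists_lift_of_open (pullback.snd f (Spec.map (CommRingCat.ofHom φ) ≫ g)) m j _
        ⟨l, hl.trans (pullback.lift_fst _ _ _).symm⟩
    constructor
    · rintro ⟨l, hl⟩ x hx
      let ψ := Spec.preimage (pullback.lift ω' l hl.symm ≫ eI.hom)
      have hψ : CommRingCat.ofHom (Ideal.Quotient.mk J) ≫ ψ = CommRingCat.ofHom
          (Algebra.TensorProduct.includeRight : B →ₐ[R] B').toRingHom := by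
        apply Spec.map_injective
        rw [Spec.map_comp, Spec.map_preimage, Category.assoc, ← heI, pullback.lift_fst]
      have := ConcreteCategory.congr_hom hψ x
      change ψ (Ideal.Quotient.mk J x) = (1 : T) ⊗ₜ[R] x at this
      rw [← this, Ideal.Quotient.eq_zero_iff_mem.mpr hx, map_zero]
    · intro h
      let ψ : B ⧸ J →+* B' := Ideal.Quotient.lift J
        (Algebra.TensorProduct.includeRight : B →ₐ[R] B').toRingHom h
      refine ⟨Spec.map (CommRingCat.ofHom ψ) ≫ eI.inv ≫ pullback.snd ω j, ?_⟩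
      rw [Category.assoc, Category.assoc, ← pullback.condition, heI, Category.assoc,
        Iso.inv_hom_id_assoc, ← Spec.map_comp_assoc]
      rfl
  · haveI := hfp
    haveI : LocallyOfFinitePresentation
        (Spec.map (CommRingCat.ofHom (Ideal.Quotient.mk J))) := by
      have : LocallyOfFinitePresentation (eI.inv ≫ pullback.fst ω j) := inferInstance
      rwa [heI, Iso.inv_hom_id_assoc] at this
    have hq : (Ideal.Quotient.mk J).FinitePresentation :=
      (HasRingHomProperty.Spec_iff (P := @LocallyOfFinitePresentation)).mp this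
    have hfp' : Algebra.FinitePresentation B (B ⧸ J) := hq
    have := Algebra.FinitePresentation.ker_fG_of_surjective (Ideal.Quotient.mkₐ B J)
      Ideal.Quotient.mk_surjective
    rwa [show RingHom.ker (Ideal.Quotient.mkₐ B J).toRingHom = J from Ideal.Quotient.mkₐ_ker B J] at this

/-- Étale charts with sections near every point of an affine test scheme. -/
theorem exists_ideal_nbhd {R : Type u} [CommRing R] (g : Spec (CommRingCat.of R) ⟶ S)
    (s : Spec (CommRingCat.of R)) :
    ∃ (A : Type u) (_ : CommRing A) (_ : Algebra R A), Module.Flat R A ∧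
      IsOpen (Set.range (Spec.map (CommRingCat.ofHom (algebraMap R A)))) ∧
      s ∈ Set.range (Spec.map (CommRingCat.ofHom (algebraMap R A))) ∧
      ∃ K : Ideal A, (∀ (T : Type u) [CommRing T] (φ : A →+* T),
          Factors f j (Spec.map (CommRingCat.ofHom (φ.comp (algebraMap R A))) ≫ g) ↔
            ∀ r ∈ K, φ r = 0) ∧
        (LocallyOfFinitePresentation j → K.FG) := by
  let p := pullback.snd f g
  obtain ⟨x, hx⟩ := p.surjective s
  obtain ⟨W, h, w, het, hw⟩ := Groth.SmoothSlice.exists_etale_section p x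
  obtain ⟨V, hV, hwV, -⟩ := exists_isAffineOpen_mem_and_subset (U := (⊤ : (pullback f g).Opens))
    (x := h w) trivial
  obtain ⟨D, hD, hwD, hDV⟩ := exists_isAffineOpen_mem_and_subset (U := h ⁻¹ᵁ V)
    (show w ∈ h ⁻¹ᵁ V from hwV)
  let C := Γ(pullback f g, V)
  let A := Γ(W, D)
  let πC : CommRingCat.of R ⟶ C := Spec.preimage (hV.fromSpec ≫ p)
  let χ : C ⟶ A := h.appLE V D hDV
  let ψ : CommRingCat.of R ⟶ A := πC ≫ χ
  have hψ : Spec.map ψ = hD.fromSpec ≫ h ≫ p := by
    rw [Spec.map_comp, Spec.map_preimage, ← Category.assoc,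
      IsAffineOpen.SpecMap_appLE_fromSpec h hV hD hDV, Category.assoc]
  haveI : Etale (Spec.map ψ) := by rw [hψ]; infer_instance
  letI : Algebra R A := ψ.hom.toAlgebra
  letI : Algebra R C := πC.hom.toAlgebra
  refine ⟨A, inferInstance, inferInstance, ?_, ?_, ?_, ?_⟩
  · exact (HasRingHomProperty.Spec_iff (P := @Flat) (φ := ψ)).mp inferInstance
  · exact (Spec.map ψ).isOpenMap.isOpen_range
  · obtain ⟨d, hd⟩ : w ∈ Set.range hD.fromSpec := by rw [hD.range_fromSpec]; exact hwD
    refine ⟨d, ?_⟩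
    show Spec.map ψ d = s
    rw [hψ, Scheme.Hom.comp_apply, hd, hw, hx]
  let B := (A : Type u) ⊗[R] (C : Type u)
  have sq : IsPullback
      (Spec.map (CommRingCat.ofHom (Algebra.TensorProduct.includeRight : C →ₐ[R] B).toRingHom))
      (Spec.map (CommRingCat.ofHom (algebraMap A B))) (Spec.map πC) (Spec.map ψ) :=
    isPullback_SpecMap_of_isPushout _ _ _ _ (CommRingCat.isPushout_tensorProduct R A C).flip
  have wC : (hV.fromSpec ≫ pullback.fst f g) ≫ f = Spec.map πC ≫ g := by
    rw [Spec.map_preimage, Category.assoc, Category.assoc, pullback.condition]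
  haveI : IsOpenImmersion (pullback.lift (hV.fromSpec ≫ pullback.fst f g) (Spec.map πC) wC) := by
    rw [show pullback.lift (hV.fromSpec ≫ pullback.fst f g) (Spec.map πC) wC = hV.fromSpec by
      apply pullback.hom_ext
      · rw [pullback.lift_fst]
      · rw [pullback.lift_snd, Spec.map_preimage]]
    infer_instance
  let ω := Spec.map (CommRingCat.ofHom (Algebra.TensorProduct.includeRight : C →ₐ[R] B).toRingHom) ≫
    hV.fromSpec ≫ pullback.fst f g
  have wB : ω ≫ f = Spec.map (CommRingCat.ofHom (algebraMap A B)) ≫ (Spec.map ψ ≫ g) := by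
    rw [Category.assoc, wC, sq.w_assoc]
  haveI : IsOpenImmersion (pullback.lift ω _ wB) := isOpenImmersion_bc wC sq
  let χ' : (C : Type u) →ₐ[R] (A : Type u) := ⟨χ.hom, fun _ ↦ rfl⟩
  let e : B →ₐ[A] A :=
    Algebra.TensorProduct.lift (AlgHom.id A A) χ' fun _ _ ↦ Commute.all _ _
  obtain ⟨K, hK, hKfg⟩ := exists_ideal_chart f j (Spec.map ψ ≫ g) ω wB e
  refine ⟨K, fun T _ φ ↦ ?_, hKfg⟩
  rw [← hK T φ, ← Category.assoc, ← Spec.map_comp]
  rfl

end Chart

section Glue

variable (f j) [Mono j]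

/-- An ideal of the condition near `s` on a flat neighbourhood. -/
def HasNbhdIdeal (Q : Prop) {R : Type u} [CommRing R] (g : Spec (CommRingCat.of R) ⟶ S)
    (s : Spec (CommRingCat.of R)) : Prop :=
  ∃ (A : Type u) (_ : CommRing A) (_ : Algebra R A), Module.Flat R A ∧
    IsOpen (Set.range (Spec.map (CommRingCat.ofHom (algebraMap R A)))) ∧
    s ∈ Set.range (Spec.map (CommRingCat.ofHom (algebraMap R A))) ∧
    ∃ K : Ideal A, (∀ (T : Type u) [CommRing T] (φ : A →+* T),
        Factors f j (Spec.map (CommRingCat.ofHom (φ.comp (algebraMap R A))) ≫ g) ↔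
          ∀ r ∈ K, φ r = 0) ∧
      (Q → K.FG)

variable {f j}

/-- The ideal of the locus on an affine test scheme. -/
theorem exists_ideal_affine {Q : Prop} {R : Type u} [CommRing R] (g : Spec (CommRingCat.of R) ⟶ S)
    (hN : ∀ s, HasNbhdIdeal f j Q g s) :
    ∃ K : Ideal R, (∀ (T : Type u) [CommRing T] (φ : R →+* T),
        Factors f j (Spec.map (CommRingCat.ofHom φ) ≫ g) ↔ ∀ r ∈ K, φ r = 0) ∧
      (Q → K.FG) := by
  classical
  choose A rA aA hflat hfp hs K hK hKfg using hN
  let p := fun s ↦ Spec.map (CommRingCat.ofHom (algebraMap R (A s)))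
  have hop : ∀ s, IsOpen (Set.range (p s)) := hfp
  obtain ⟨t, ht⟩ := isCompact_univ.elim_finite_subcover (fun s ↦ Set.range (p s)) hop
    fun s _ ↦ Set.mem_iUnion.mpr ⟨s, hs s⟩
  let A' : t → Type u := fun i ↦ A i.1
  haveI : ∀ i, Module.Flat R (A' i) := fun i ↦ hflat i.1
  have hcov : ∀ q : PrimeSpectrum R, ∃ (i : t) (q' : PrimeSpectrum (A' i)),
      PrimeSpectrum.comap (algebraMap R (A' i)) q' = q := fun q ↦ by
    obtain ⟨s, hsq⟩ := Set.mem_iUnion.mp (ht (Set.mem_univ q))
    obtain ⟨hst, q', hq'⟩ := Set.mem_iUnion.mp hsq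
    exact ⟨⟨s, hst⟩, q', hq'⟩
  haveI := Groth.Reductive.MTInt.faithfullyFlat_pi (B := R) (C := A') (fun i ↦ hflat i.1) hcov
  -- the families agree on overlaps
  obtain ⟨K₀, hK₀⟩ := exists_descend_ideal (R := R) (fun i : t ↦ K i.1) fun i k ↦ by
    let inL : A' i →+* A' i ⊗[R] A' k := Algebra.TensorProduct.includeLeftRingHom
    let inR : A' k →+* A' i ⊗[R] A' k :=
      (Algebra.TensorProduct.includeRight : A' k →ₐ[R] A' i ⊗[R] A' k).toRingHom
    have key : ∀ (T : Type u) [CommRing T] (φ : A' i ⊗[R] A' k →+* T),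
        (∀ r ∈ K i.1, φ (inL r) = 0) ↔ ∀ r ∈ K k.1, φ (inR r) = 0 := by
      intro T _ φ
      show (∀ r ∈ K i.1, (φ.comp inL) r = 0) ↔ ∀ r ∈ K k.1, (φ.comp inR) r = 0
      rw [← hK i.1 T (φ.comp inL), ← hK k.1 T (φ.comp inR), RingHom.comp_assoc,
        RingHom.comp_assoc, show inR.comp (algebraMap R (A' k)) = inL.comp (algebraMap R (A' i)) from
          RingHom.ext fun r ↦ (Algebra.TensorProduct.includeRight : A' k →ₐ[R] _).commutes r]
    refine le_antisymm ?_ ?_ <;> rw [Ideal.map_le_iff_le_comap] <;> intro r hr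
    · refine Ideal.mem_comap.mpr (Ideal.Quotient.eq_zero_iff_mem.mp ?_)
      refine (key _ (Ideal.Quotient.mk ((K k.1).map
        (Algebra.TensorProduct.includeRight : A' k →ₐ[R] A' i ⊗[R] A' k)))).mpr ?_ r hr
      exact fun r' hr' ↦ Ideal.Quotient.eq_zero_iff_mem.mpr (Ideal.mem_map_of_mem _ hr')
    · refine Ideal.mem_comap.mpr (Ideal.Quotient.eq_zero_iff_mem.mp ?_)
      refine (key _ (Ideal.Quotient.mk ((K i.1).map
        (Algebra.TensorProduct.includeLeft : A' i →ₐ[R] A' i ⊗[R] A' k)))).mp ?_ r hr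
      exact fun r' hr' ↦ Ideal.Quotient.eq_zero_iff_mem.mpr (Ideal.mem_map_of_mem _ hr')
  refine ⟨K₀, fun T _ φ ↦ ?_, fun hj ↦ Groth.Reductive.MTInt.fg_of_cover (C := A') K₀ fun i ↦
    (hK₀ i).symm ▸ hKfg i.1 hj⟩
  letI : Algebra R T := φ.toAlgebra
  let incL : ∀ i, A' i →+* A' i ⊗[R] T := fun i ↦ Algebra.TensorProduct.includeLeftRingHom
  let incR : ∀ i, T →+* A' i ⊗[R] T := fun i ↦
    (Algebra.TensorProduct.includeRight : T →ₐ[R] A' i ⊗[R] T).toRingHom
  have hcomm : ∀ i, (incL i).comp (algebraMap R (A' i)) = (incR i).comp φ := fun i ↦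
    RingHom.ext fun r ↦ ((Algebra.TensorProduct.includeRight : T →ₐ[R] A' i ⊗[R] T).commutes r).symm
  have hiff : ∀ i, Factors f j
      (Spec.map (CommRingCat.ofHom (incR i)) ≫ Spec.map (CommRingCat.ofHom φ) ≫ g) ↔
      ∀ r ∈ K i.1, incL i r = 0 := fun i ↦ by
    rw [← hK i.1 _ (incL i), hcomm, CommRingCat.ofHom_comp, Spec.map_comp, Category.assoc]
  constructor
  · intro h
    refine le_ker_of_cover (A := A') K₀ T fun i ↦ ?_
    rw [hK₀ i]
    exact (hiff i).mp (h.comp _)
  · intro h
    let P : t → Scheme.{u} := fun i ↦ Spec (CommRingCat.of (A' i ⊗[R] T))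
    let ai : ∀ i, P i ⟶ Spec (CommRingCat.of T) := fun i ↦ Spec.map (CommRingCat.ofHom (incR i))
    have sqi : ∀ i, IsPullback (Spec.map (CommRingCat.ofHom (incL i))) (ai i)
        (p i.1) (Spec.map (CommRingCat.ofHom φ)) := fun i ↦
      isPullback_SpecMap_of_isPushout _ _ _ _ (CommRingCat.isPushout_tensorProduct R (A' i) T)
    let a := Sigma.desc ai
    haveI : Flat a := IsZariskiLocalAtSource.sigmaDesc fun i ↦
      MorphismProperty.of_isPullback (P := @Flat) (sqi i)
        ((HasRingHomProperty.Spec_iff (P := @Flat)).mpr (RingHom.flat_algebraMap_iff.mpr (hflat i.1)))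
    haveI : IsAffineHom a := isAffineHom_of_isAffine a
    haveI : Surjective a := ⟨fun q ↦ by
      obtain ⟨i, q', hq'⟩ := hcov (Spec.map (CommRingCat.ofHom φ) q)
      obtain ⟨z, -, hz⟩ := Scheme.exists_preimage_of_isPullback (sqi i) q' q hq'
      refine ⟨Sigma.ι P i z, ?_⟩
      rw [← Scheme.Hom.comp_apply, Sigma.ι_desc]
      exact hz⟩
    refine Factors.of_fpqc a (Factors.of_openCover (sigmaOpenCover P) fun i ↦ ?_)
    show Factors f j (Sigma.ι P i ≫ a ≫ _)
    rw [Sigma.ι_desc_assoc, hiff i]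
    intro r hr
    rw [← hK₀ i] at hr
    refine (Ideal.map_le_iff_le_comap.mpr ?_ : K₀.map (algebraMap R (A' i)) ≤ RingHom.ker (incL i)) hr
    intro r' hr'
    show incL i (algebraMap R (A' i) r') = 0
    rw [← RingHom.comp_apply, hcomm, RingHom.comp_apply, h r' hr', map_zero]

/-- A condition given by ideals near every point of every affine test scheme is a closed subscheme. -/
theorem exists_locus_of_nbhds {Q : Prop}
    (hN : ∀ (R : Type u) [CommRing R] (g : Spec (CommRingCat.of R) ⟶ S) s, HasNbhdIdeal f j Q g s) :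
    ∃ (T : Scheme.{u}) (t : T ⟶ S), IsClosedImmersion t ∧
      (∀ (S' : Scheme.{u}) (g : S' ⟶ S), (∃ g' : S' ⟶ T, g' ≫ t = g) ↔ Factors f j g) ∧
      (Q → LocallyOfFinitePresentation t) := by
  choose K hK hKfg using fun (Y : Over S) (_ : IsAffine Y.left) (y : Y ⟶ Over.mk (𝟙 S)) ↦
    exists_ideal_affine (f := f) (j := j) (R := Γ(Y.left, ⊤)) (Y.left.isoSpec.inv ≫ y.left)
      (hN _ _)
  have hpt : ∀ {Z : Over S} (z : Z ⟶ Over.mk (𝟙 S)), z.left = Z.hom := fun z ↦
    (Category.comp_id z.left).symm.trans (Over.w z)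
  obtain ⟨E, t, ht, htfp, hE⟩ := Groth.Reductive.MTInt.exists_closed_of_local (X := Over.mk (𝟙 S))
    (fun z ↦ Factors f j z.left) (fun z a h ↦ h.comp a.left)
    (fun {Z} z h ↦ by
      choose W hxW hW using h
      exact Factors.of_openCover (Scheme.openCoverOfIsOpenCover _ W
        (.mk (top_unique fun x _ ↦ TopologicalSpace.Opens.mem_iSup.mpr ⟨x, hxW x⟩))) hW)
    (fun Y hY y ↦ K Y hY y)
    (fun Y Y' hY hY' y a ↦ by
      have e : (a ≫ y).left = Y'.left.isoSpec.hom ≫
          Spec.map a.left.appTop ≫ Y.left.isoSpec.inv ≫ y.left := by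
        rw [Scheme.isoSpec_hom_naturality_assoc, Iso.hom_inv_id_assoc]
        rfl
      show Factors f j (a ≫ y).left ↔ _
      rw [← hK Y hY y _ a.left.appTop.hom, e]
      exact ⟨fun h ↦ by simpa using h.comp Y'.left.isoSpec.inv, fun h ↦ h.comp _⟩)
  refine ⟨E.left, t.left, ht, fun S' g ↦ ?_, fun hj ↦ htfp fun Y _ y ↦ hKfg Y _ y hj⟩
  refine Iff.trans ?_ (hE (Over.mk g) (Over.homMk g (Category.comp_id g)))
  constructor
  · rintro ⟨g', hg'⟩
    exact ⟨Over.homMk g' ((congrArg (g' ≫ ·) (hpt t).symm).trans hg'), Over.OverMorphism.ext hg'⟩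
  · rintro ⟨z, hz⟩
    exact ⟨z.left, congrArg CommaMorphism.left hz⟩

end Glue

/-- The Weil restriction of a closed subscheme along a smooth morphism with geometrically
irreducible fibres is a closed subscheme. -/
theorem exists_weilLocus (f : X ⟶ S) (j : Y ⟶ X) [Smooth f] [GeometricallyIrreducible f]
    [IsClosedImmersion j] :
    ∃ (T : Scheme.{u}) (t : T ⟶ S), IsClosedImmersion t ∧
      (∀ (S' : Scheme.{u}) (g : S' ⟶ S), (∃ g' : S' ⟶ T, g' ≫ t = g) ↔ Factors f j g) ∧
      (LocallyOfFinitePresentation j → LocallyOfFinitePresentation t) :=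
  exists_locus_of_nbhds fun _ _ g s ↦ exists_ideal_nbhd f j g s

end Groth.SmoothWeil
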