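import Groth.Agent.SmoothWeil.Geom
import Groth.Agent.GrpschAbsch.FieldCompact
import Groth.Agent.AlgGrp1.Blanchard

/-!
A subgroup of a smooth group with geometrically irreducible fibres which contains an open meeting
every fibre is the whole group.
-/

set_option autoImplicit false
universe u

open CategoryTheory CategoryTheory.Limits MonoidalCategory CartesianMonoidalCategory MonObj GrpObj
  AlgebraicGeometry TopologicalSpace Groth.GrpschAbsch

noncomputable section

namespace Groth.SmoothWeil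

variable {S : Scheme.{u}}

/-- A group with geometrically irreducible fibres is covered by the product of two copies of an
open meeting all fibres. -/
theorem surjective_mul (G : Over S) [GrpObj G] [GeometricallyIrreducible G.hom]
    [UniversallyOpen G.hom] (U : G.left.Opens) (hU : ∀ s, ∃ x ∈ U, G.hom x = s) :
    Surjective (((Over.homMk U.ι rfl ⊗ₘ Over.homMk U.ι rfl :
      Over.mk (U.ι ≫ G.hom) ⊗ Over.mk (U.ι ≫ G.hom) ⟶ G ⊗ G) ≫ μ[G]).left) := by
  refine ⟨fun x ↦ ?_⟩
  have : IrreducibleSpace (resObj x).left := by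
    rw [irreducibleSpace_def]
    exact ⟨⟨default, trivial⟩, Set.subsingleton_univ.isPreirreducible⟩
  have : IrreducibleSpace (resObj x ⊗ G).left :=
    inferInstanceAs (IrreducibleSpace ↥(pullback (resObj x).hom G.hom))
  let a : resObj x ⊗ G ⟶ G := fst _ _ ≫ resPt x
  let s : resObj x ⊗ G ⟶ G := snd _ _
  let b : resObj x ⊗ G ⟶ G := s⁻¹ * a
  let φ : resObj x ⊗ G ≅ resObj x ⊗ G :=
    { hom := lift (fst _ _) b
      inv := lift (fst _ _) (a * s⁻¹)
      hom_inv_id := by
        apply CartesianMonoidalCategory.hom_ext <;>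
          simp [a, b, s, MonObj.comp_mul, GrpObj.comp_inv]
      inv_hom_id := by
        apply CartesianMonoidalCategory.hom_ext <;>
          simp [a, b, s, MonObj.comp_mul, GrpObj.comp_inv] }
  obtain ⟨z, hz, hzx⟩ := hU ((resObj x).hom default)
  obtain ⟨p, -, hp⟩ := Scheme.Pullback.exists_preimage_pullback (f := (resObj x).hom) (g := G.hom)
    default z hzx.symm
  have hbp : b.left ((leftHomeo φ).symm p) = z := by
    rw [show b = φ.hom ≫ s from (lift_snd _ _).symm, Over.comp_left, Scheme.Hom.comp_apply]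
    exact (congrArg s.left ((leftHomeo φ).apply_symm_apply p)).trans hp
  obtain ⟨w, -, hw1, hw2⟩ := (IrreducibleSpace.isIrreducible_univ (resObj x ⊗ G).left).2
    _ _ (U.isOpen.preimage s.left.continuous) (U.isOpen.preimage b.left.continuous)
    ⟨p, trivial, show s.left p ∈ U from hp.symm ▸ hz⟩
    ⟨(leftHomeo φ).symm p, trivial, show b.left _ ∈ U from hbp.symm ▸ hz⟩
  let W : (resObj x ⊗ G).left.Opens := s.left ⁻¹ᵁ U ⊓ b.left ⁻¹ᵁ U
  let jW : Over.mk (W.ι ≫ (resObj x ⊗ G).hom) ⟶ resObj x ⊗ G := Over.homMk W.ι rfl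
  let jU : Over.mk (U.ι ≫ G.hom) ⟶ G := Over.homMk U.ι rfl
  have hfac : ∀ (m : resObj x ⊗ G ⟶ G), Set.range (jW ≫ m).left ⊆ U →
      ∃ m' : Over.mk (W.ι ≫ (resObj x ⊗ G).hom) ⟶ Over.mk (U.ι ≫ G.hom), m' ≫ jU = jW ≫ m := by
    intro m hm
    have hm' : Set.range (jW ≫ m).left ⊆ Set.range U.ι := by
      rw [Scheme.Opens.range_ι]; exact hm
    have hl := IsOpenImmersion.lift_fac U.ι (jW ≫ m).left hm'
    refine ⟨Over.homMk (IsOpenImmersion.lift U.ι (jW ≫ m).left hm') ?_, Over.OverMorphism.ext hl⟩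
    show _ ≫ U.ι ≫ G.hom = _
    rw [reassoc_of% hl, Over.w (jW ≫ m)]
  obtain ⟨s', hs'⟩ := hfac s (by rintro _ ⟨⟨v, hv⟩, rfl⟩; exact hv.1)
  obtain ⟨b', hb'⟩ := hfac b (by rintro _ ⟨⟨v, hv⟩, rfl⟩; exact hv.2)
  refine ⟨(lift s' b').left ⟨w, hw1, hw2⟩, ?_⟩
  have h : lift s' b' ≫ (jU ⊗ₘ jU) ≫ μ[G] = jW ≫ a := by
    rw [lift_map_assoc, hs', hb', ← comp_lift_assoc]
    congr 1
    show s * b = a
    simp [b]
  let v : (Over.mk (W.ι ≫ (resObj x ⊗ G).hom)).left := ⟨w, hw1, hw2⟩
  have key : (lift s' b' ≫ (jU ⊗ₘ jU) ≫ μ[G]).left v = (jW ≫ fst (resObj x) G ≫ resPt x).left v := by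
    rw [h]
  rw [← Category.assoc jW, comp_resPt_apply x _ v, Over.comp_left, Scheme.Hom.comp_apply] at key
  exact key

/-- A monomorphic homomorphism into a smooth group with geometrically irreducible fibres through
which an open meeting every fibre factors is an isomorphism. -/
theorem isIso_of_open {X Y : Over S} [GrpObj X] [GrpObj Y] [Smooth X.hom]
    [QuasiSeparated X.hom] [GeometricallyIrreducible X.hom] (i : Y ⟶ X) [IsMonHom i] [Mono i]
    (V : X.left.Opens) [QuasiCompact (V.ι ≫ X.hom)] (hV : ∀ s, ∃ x ∈ V, X.hom x = s)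
    (l : (V : Scheme.{u}) ⟶ Y.left) (hl : l ≫ i.left = V.ι) : IsIso i.left := by
  let Vo : Over S := Over.mk (V.ι ≫ X.hom)
  let jV : Vo ⟶ X := Over.homMk V.ι rfl
  let lY : Vo ⟶ Y := Over.homMk l (by rw [← Over.w i, ← Category.assoc, hl]; rfl)
  have hlY : lY ≫ i = jV := Over.OverMorphism.ext hl
  let q := (jV ⊗ₘ jV) ≫ μ[X]
  have hq : (lY ⊗ₘ lY) ≫ μ[Y] ≫ i = q := by
    rw [IsMonHom.mul_hom, ← Category.assoc, MonoidalCategory.tensorHom_comp_tensorHom, hlY]
  haveI : Surjective q.left := surjective_mul X V hV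
  haveI : IsOpenImmersion (jV ⊗ₘ jV).left := by
    rw [MonoidalCategory.tensorHom_def, Over.comp_left]
    haveI : IsOpenImmersion jV.left := inferInstanceAs (IsOpenImmersion V.ι)
    haveI : IsOpenImmersion (jV ▷ Vo).left := MorphismProperty.of_isPullback
      (P := @IsOpenImmersion) (Groth.AlgGrp1.isPullback_whiskerRight jV Vo) inferInstance
    haveI : IsOpenImmersion (X ◁ jV).left := MorphismProperty.of_isPullback
      (P := @IsOpenImmersion) (Groth.AlgGrp1.isPullback_whiskerLeft X jV) inferInstance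
    infer_instance
  haveI : Smooth μ[X].left := by
    let e : X ⊗ X ≅ X ⊗ X :=
      { hom := lift (fst _ _) (fst _ _ * snd _ _)
        inv := lift (fst _ _) ((fst _ _)⁻¹ * snd _ _)
        hom_inv_id := by
          apply CartesianMonoidalCategory.hom_ext <;> simp [MonObj.comp_mul, GrpObj.comp_inv]
        inv_hom_id := by
          apply CartesianMonoidalCategory.hom_ext <;> simp [MonObj.comp_mul, GrpObj.comp_inv] }
    haveI : IsIso e.hom.left := ((Over.forget S).mapIso e).isIso_hom
    haveI : Smooth (snd X X).left := MorphismProperty.pullback_snd X.hom X.hom ‹_›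
    rw [show μ[X] = e.hom ≫ snd X X by simp [e, MonObj.mul_eq_mul], Over.comp_left]
    infer_instance
  haveI : Flat q.left := by rw [Over.comp_left]; infer_instance
  haveI : QuasiCompact q.left := by
    haveI : QuasiCompact (q.left ≫ X.hom) := by
      rw [Over.w q]
      haveI : QuasiCompact Vo.hom := inferInstanceAs (QuasiCompact (V.ι ≫ X.hom))
      exact (inferInstanceAs (QuasiCompact (pullback.fst Vo.hom Vo.hom ≫ Vo.hom)))
    exact QuasiCompact.of_comp q.left X.hom
  haveI : Mono i.left := (Over.forget S).map_mono i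
  haveI : IsIso (pullback.fst q.left i.left) := by
    refine ⟨⟨pullback.lift (𝟙 _) ((lY ⊗ₘ lY) ≫ μ[Y]).left (by
      rw [Category.id_comp, ← Over.comp_left, Category.assoc, hq]), ?_, pullback.lift_fst _ _ _⟩⟩
    rw [← cancel_mono (pullback.fst q.left i.left), Category.assoc, pullback.lift_fst,
      Category.comp_id, Category.id_comp]
  exact MorphismProperty.of_pullback_fst_of_descendsAlong
    (P := MorphismProperty.isomorphisms Scheme.{u})
    (Q := (@Surjective ⊓ @Flat ⊓ @QuasiCompact : MorphismProperty Scheme.{u}))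
    (f := q.left) ⟨⟨inferInstance, inferInstance⟩, inferInstance⟩
    (show IsIso (pullback.fst q.left i.left) from inferInstance)

end Groth.SmoothWeil
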