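import Groth.Agent.SmoothWeil.Locus
import Groth.Agent.SmoothWeil.GroupOpen
import Groth.Agent.FlatMor2.NilBaseChange
import Groth.Agent.Flatmor4.UnramifiedSplit
import Groth.Agent.PropsBasic2.Misc
import Groth.Prelude.Def_Red

/-!
The closed locus where a monomorphic homomorphism of finite presentation into a smooth group with
connected fibres is an isomorphism.
-/

set_option autoImplicit false
universe u

open CategoryTheory CategoryTheory.Limits MonoidalCategory CartesianMonoidalCategory MonObj GrpObj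
  AlgebraicGeometry TensorProduct

noncomputable section

namespace Groth.SmoothWeil

/-- A function vanishing near a section is fixed by an element of the kernel of the section. -/
theorem exists_fixed_of_nbhd {B T : Type u} [CommRing B] [CommRing T] (e : B →+* T)
    (he : Function.Surjective e) (z : B)
    (h : ∀ p : PrimeSpectrum T, ∃ a : B, a ∉ (PrimeSpectrum.comap e p).asIdeal ∧
      algebraMap B (Localization.Away a) z = 0) :
    ∃ t ∈ RingHom.ker e, t * z = z := by
  let L : Ideal B := LinearMap.ker (LinearMap.toSpanSingleton B B z)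
  have htop : L ⊔ RingHom.ker e = ⊤ := by
    by_contra hne
    obtain ⟨P, hP, hle⟩ := Ideal.exists_le_maximal _ hne
    have hker : RingHom.ker e ≤ P := le_sup_right.trans hle
    haveI := Ideal.map_isPrime_of_surjective he hker (H := hP.isPrime)
    obtain ⟨a, ha, haz⟩ := h ⟨P.map e, inferInstance⟩
    obtain ⟨⟨_, n, rfl⟩, hn⟩ := (IsLocalization.map_eq_zero_iff (Submonoid.powers a) _ z).mp haz
    have haP : a ∉ P := by
      intro hmem
      exact ha (Ideal.mem_map_of_mem e hmem)
    exact haP (hP.isPrime.mem_of_pow_mem n (hle (le_sup_left (a := L) (b := RingHom.ker e) hn)))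
  obtain ⟨a, ha, t, ht, hat⟩ := Submodule.mem_sup.mp (htop ▸ Submodule.mem_top : (1 : B) ∈ L ⊔ RingHom.ker e)
  refine ⟨t, ht, ?_⟩
  have h0 : a * z = 0 := ha
  calc t * z = a * z + t * z := by rw [h0, _root_.zero_add]
    _ = z := by rw [← _root_.add_mul, hat, _root_.one_mul]

variable {S : Scheme.{u}} {X Y : Over S}

section Chart

variable (i : Y ⟶ X)

/-- The factorisation criterion on a chart around the unit section. -/
theorem exists_ideal_groupChart [GrpObj X] [GrpObj Y] [Smooth X.hom] [QuasiSeparated X.hom]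
    [GeometricallyIrreducible X.hom] [IsMonHom i] [Mono i] {R B : Type u} [CommRing R] [CommRing B]
    [Algebra R B] [Algebra.Smooth R B] (e : B →ₐ[R] R) (g : Spec (CommRingCat.of R) ⟶ S)
    (ω : Spec (CommRingCat.of B) ⟶ X.left)
    (w : ω ≫ X.hom = Spec.map (CommRingCat.ofHom (algebraMap R B)) ≫ g)
    [Etale (pullback.lift ω _ w)] (J : Ideal B) (hJ : J.FG)
    (hJ1 : ∃ l, l ≫ i.left = Spec.map (CommRingCat.ofHom (Ideal.Quotient.mk J)) ≫ ω)
    (hJ2 : ∀ (T : Type u) [CommRing T] [Algebra R T],
      Factors X.hom i.left (Spec.map (CommRingCat.ofHom (algebraMap R T)) ≫ g) →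
        ∀ x ∈ J, ∃ t ∈ RingHom.ker (bcSection e T),
          t * ((1 : T) ⊗ₜ[R] x) = (1 : T) ⊗ₜ[R] x) :
    ∃ K : Ideal R, (∀ (T : Type u) [CommRing T] (φ : R →+* T),
        Factors X.hom i.left (Spec.map (CommRingCat.ofHom φ) ≫ g) ↔ ∀ r ∈ K, φ r = 0) ∧
      K.FG := by
  classical
  haveI : Mono i.left := (Over.forget S).map_mono i
  refine ⟨sectionIdeal e J, fun T _ φ ↦ ?_, sectionIdeal_fg e hJ⟩
  letI : Algebra R T := φ.toAlgebra
  refine ⟨fun h ↦ (sectionIdeal_le_iff e J T).mpr (hJ2 T h), fun h ↦ ?_⟩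
  have hfix := (sectionIdeal_le_iff e J T).mp h
  obtain ⟨s, hs⟩ := hJ
  choose t ht htx using fun x : s ↦ hfix x.1 (hs ▸ Ideal.subset_span x.2)
  let B' := T ⊗[R] B
  let e' := bcSection e T
  let incR : B →+* B' := (Algebra.TensorProduct.includeRight : B →ₐ[R] B').toRingHom
  let d : B' := ∏ x : s, (1 - t x)
  have hd : e' d = 1 := by
    rw [map_prod]
    exact Finset.prod_eq_one fun x _ ↦ by rw [map_sub, map_one, show e' (t x) = 0 from ht x, _root_.sub_zero]
  let L := Localization.Away d
  have hJL : ∀ x ∈ J, algebraMap B' L (incR x) = 0 := by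
    have : J ≤ RingHom.ker ((algebraMap B' L).comp incR) := by
      rw [← hs, Ideal.span_le]
      intro x hx
      refine (IsUnit.mul_right_eq_zero (IsLocalization.Away.algebraMap_isUnit d)).mp ?_
      rw [RingHom.comp_apply, ← map_mul,
        show d * incR x = 0 by
          simp only [d]
          rw [← Finset.mul_prod_erase _ _ (Finset.mem_univ (⟨x, hx⟩ : s)), mul_right_comm,
            _root_.sub_mul, _root_.one_mul, show t ⟨x, hx⟩ * incR x = incR x from htx ⟨x, hx⟩, sub_self,
            MulZeroClass.zero_mul],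
        map_zero]
    exact fun x hx ↦ this hx
  -- the chart over `T`
  let a := Spec.map (CommRingCat.ofHom φ) ≫ g
  let ω' : Spec (CommRingCat.of B') ⟶ Spec (CommRingCat.of B) := Spec.map (CommRingCat.ofHom incR)
  let π' : Spec (CommRingCat.of B') ⟶ Spec (CommRingCat.of T) :=
    Spec.map (CommRingCat.ofHom (algebraMap T B'))
  have sq : IsPullback ω' π' (Spec.map (CommRingCat.ofHom (algebraMap R B)))
      (Spec.map (CommRingCat.ofHom φ)) :=
    isPullback_SpecMap_of_isPushout _ _ _ _ (CommRingCat.isPushout_tensorProduct R T B).flip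
  let m := pullback.lift (f := X.hom) (g := a) (ω' ≫ ω) π'
    (by rw [Category.assoc, w, sq.w_assoc])
  haveI : Etale m := chart_bc @Etale w ‹_› sq
  let oL : Spec (CommRingCat.of L) ⟶ Spec (CommRingCat.of B') :=
    Spec.map (CommRingCat.ofHom (algebraMap B' L))
  haveI : IsOpenImmersion oL := IsOpenImmersion.of_isLocalization (S := L) d
  let v := oL ≫ m
  haveI : Etale v := inferInstanceAs (Etale (oL ≫ m))
  let V : (pullback X.hom a).Opens := ⟨Set.range v, v.isOpenMap.isOpen_range⟩
  -- the group over `T`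
  let X' : Over (Spec (CommRingCat.of T)) := (Over.pullback a).obj X
  let Y' : Over (Spec (CommRingCat.of T)) := (Over.pullback a).obj Y
  let i' : Y' ⟶ X' := (Over.pullback a).map i
  haveI : Smooth X'.hom := MorphismProperty.pullback_snd _ _ ‹_›
  haveI : QuasiSeparated X'.hom := MorphismProperty.pullback_snd _ _ ‹_›
  haveI : GeometricallyIrreducible X'.hom :=
    inferInstanceAs (GeometricallyIrreducible (pullback.snd X.hom a))
  haveI : Mono i' := inferInstance
  haveI : QuasiSeparatedSpace X'.left :=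
    quasiSeparatedSpace_of_quasiSeparated X'.hom
  haveI : CompactSpace (V : Scheme.{u}) :=
    isCompact_iff_compactSpace.mp (isCompact_range v.continuous)
  haveI : QuasiCompact (V.ι ≫ X'.hom) := quasiCompact_of_compactSpace (X := (V : Scheme.{u})) _
  -- a lift of `v` into `Y'`
  obtain ⟨l0, hl0⟩ := hJ1
  let ψ : B ⧸ J →+* L := Ideal.Quotient.lift J ((algebraMap B' L).comp incR) hJL
  have hψ : Spec.map (CommRingCat.ofHom ψ) ≫ Spec.map (CommRingCat.ofHom (Ideal.Quotient.mk J)) =
      oL ≫ ω' := by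
    rw [← Spec.map_comp, ← Spec.map_comp]
    rfl
  have hlv : (Spec.map (CommRingCat.ofHom ψ) ≫ l0) ≫ i.left = v ≫ pullback.fst X.hom a := by
    rw [Category.assoc, hl0, reassoc_of% hψ, Category.assoc]
    exact congrArg (oL ≫ ·) (pullback.lift_fst _ _ _).symm
  let lv : Spec (CommRingCat.of L) ⟶ Y'.left :=
    pullback.lift (f := Y.hom) (g := a) (Spec.map (CommRingCat.ofHom ψ) ≫ l0)
      (v ≫ pullback.snd X.hom a) (by
        rw [← Over.w i, ← Category.assoc, hlv, Category.assoc, pullback.condition, Category.assoc]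
        simp only [v, Category.assoc])
  have hlv' : lv ≫ i'.left = v := by
    apply pullback.hom_ext
    · simp only [i', lv, Over.pullback_map_left, Category.assoc, pullback.lift_fst,
        pullback.lift_fst_assoc]
      exact (Category.assoc _ _ _).symm.trans hlv
    · simp only [i', lv, Over.pullback_map_left, Category.assoc, pullback.lift_snd]
  let v₀ : Spec (CommRingCat.of L) ⟶ (V : Scheme.{u}) :=
    IsOpenImmersion.lift V.ι v (by rw [Scheme.Opens.range_ι]; exact subset_rfl)
  have hv₀ : v₀ ≫ V.ι = v := IsOpenImmersion.lift_fac _ _ _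
  haveI : Surjective v₀ := ⟨fun y ↦ by
    obtain ⟨z, hz⟩ := y.2
    refine ⟨z, V.ι.isOpenEmbedding.injective ?_⟩
    rw [← Scheme.Hom.comp_apply, hv₀]
    exact hz⟩
  haveI : Etale v₀ := by
    haveI : Etale (v₀ ≫ V.ι) := by rw [hv₀]; infer_instance
    exact MorphismProperty.of_postcomp (W := @Etale) (W' := @Etale) v₀ V.ι inferInstance this
  haveI : QuasiCompact v₀ := by
    haveI : QuasiCompact (v₀ ≫ V.ι ≫ X'.hom) := quasiCompact_of_compactSpace _
    exact QuasiCompact.of_comp v₀ (V.ι ≫ X'.hom)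
  haveI : Mono i'.left := (Over.forget _).map_mono i'
  haveI : IsIso (pullback.fst V.ι i'.left) := by
    refine MorphismProperty.of_pullback_fst_of_descendsAlong
      (P := MorphismProperty.isomorphisms Scheme.{u})
      (Q := (@Surjective ⊓ @Flat ⊓ @QuasiCompact : MorphismProperty Scheme.{u}))
      (f := v₀) ⟨⟨inferInstance, inferInstance⟩, inferInstance⟩ ?_
    show IsIso _
    refine ⟨⟨pullback.lift (𝟙 _) (pullback.lift v₀ lv (by rw [hv₀, hlv'])) (by
      rw [Category.id_comp, pullback.lift_fst]), ?_, pullback.lift_fst _ _ _⟩⟩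
    rw [← cancel_mono (pullback.fst v₀ (pullback.fst V.ι i'.left)), Category.assoc, pullback.lift_fst,
      Category.comp_id, Category.id_comp]
  have hsurj : ∀ p, ∃ x ∈ V, X'.hom x = p := fun p ↦ by
    let q : PrimeSpectrum B' := PrimeSpectrum.comap e'.toRingHom p
    have hq : q ∈ Set.range oL := by
      show q ∈ Set.range (PrimeSpectrum.comap (algebraMap B' L))
      rw [PrimeSpectrum.localization_away_comap_range L d]
      intro hmem
      have : e' d ∈ p.asIdeal := hmem
      rw [hd] at this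
      exact p.isPrime.ne_top ((Ideal.eq_top_iff_one _).mpr this)
    obtain ⟨z, hz⟩ := hq
    refine ⟨v z, ⟨z, rfl⟩, ?_⟩
    show pullback.snd X.hom a (v z) = p
    rw [← Scheme.Hom.comp_apply, Category.assoc, pullback.lift_snd, Scheme.Hom.comp_apply, hz]
    refine PrimeSpectrum.ext (Ideal.ext fun r ↦ ?_)
    show e' (algebraMap T B' r) ∈ p.asIdeal ↔ r ∈ p.asIdeal
    rw [AlgHom.commutes]
    rfl
  have hiso : IsIso i'.left := isIso_of_open i' V hsurj (inv (pullback.fst V.ι i'.left) ≫
    pullback.snd V.ι i'.left) (by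
      rw [Category.assoc, ← pullback.condition, IsIso.inv_hom_id_assoc])
  refine ⟨inv i'.left ≫ pullback.fst Y.hom a, ?_⟩
  rw [Category.assoc, IsIso.inv_comp_eq]
  simp [i', Over.pullback_map_left]
  exact (pullback.lift_fst _ _ _).symm

end Chart

variable [GrpObj X] [GrpObj Y] [Smooth X.hom] [QuasiSeparated X.hom]
  [GeometricallyIrreducible X.hom] [LocallyOfFinitePresentation Y.hom] (i : Y ⟶ X) [IsMonHom i]
  [Mono i]

/-- Charts around the unit section. -/
theorem hasNbhdIdeal_group {R : Type u} [CommRing R] (g : Spec (CommRingCat.of R) ⟶ S)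
    (s : Spec (CommRingCat.of R)) : HasNbhdIdeal X.hom i.left True g s := by
  haveI : Mono i.left := (Over.forget S).map_mono i
  haveI : LocallyOfFinitePresentation (i.left ≫ X.hom) := by rw [Over.w]; infer_instance
  haveI : LocallyOfFinitePresentation i.left := Groth.PropsBasic2.lfp_of_comp i.left X.hom
  let eX : S ⟶ X.left := η[X].left
  let eY : S ⟶ Y.left := η[Y].left
  have heX : eX ≫ X.hom = 𝟙 S := Over.w η[X]
  have hone : eY ≫ i.left = eX := congrArg CommaMorphism.left (IsMonHom.one_hom (f := i))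
  let p := pullback.snd X.hom g
  let σ : Spec (CommRingCat.of R) ⟶ pullback X.hom g :=
    pullback.lift (g ≫ eX) (𝟙 _) (by rw [Category.assoc, heX, Category.comp_id, Category.id_comp])
  have hσp : σ ≫ p = 𝟙 _ := pullback.lift_snd _ _ _
  let jR := pullback.snd i.left (pullback.fst X.hom g)
  haveI : Mono jR := inferInstanceAs (Mono (pullback.snd _ _))
  haveI : LocallyOfFinitePresentation jR := MorphismProperty.pullback_snd _ _ ‹_›
  haveI : FormallyUnramified jR := Groth.FlatMor2.formallyUnramified_of_mono jR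
  let τ₀ : Spec (CommRingCat.of R) ⟶ pullback i.left (pullback.fst X.hom g) :=
    pullback.lift (g ≫ eY) σ (by
      rw [Category.assoc, hone]; exact (pullback.lift_fst _ _ _).symm)
  have hτ₀ : τ₀ ≫ jR = σ := pullback.lift_snd _ _ _
  obtain ⟨U, gU, uu, hgU, huu, K, hKfin, lab, Vs, hcl, -, hcov, -, -⟩ :=
    Groth.Flatmor4.exists_split_unramified jR (σ s) (fun _ : Unit ↦ τ₀ s)
      (fun a b _ ↦ Subsingleton.elim a b)
      (fun _ ↦ by rw [← Scheme.Hom.comp_apply, hτ₀])
      (fun _ ↦ ⟨⊤, trivial, inferInstance, Groth.Flatmor4.formallyUnramified_comp _ _ ‹_›⟩)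
  let W₀ := pullback gU σ
  obtain ⟨d, hd1, hd2⟩ := Scheme.Pullback.exists_preimage_pullback (f := gU) (g := σ) uu s huu
  let τ : W₀ ⟶ pullback jR gU := pullback.lift (pullback.snd gU σ ≫ τ₀) (pullback.fst gU σ)
    (by rw [Category.assoc, hτ₀, pullback.condition])
  obtain ⟨k, -, hwk⟩ := hcov (τ d) ()
    (by rw [← Scheme.Hom.comp_apply, pullback.lift_snd]; exact hd1)
    (by rw [← Scheme.Hom.comp_apply, pullback.lift_fst, Scheme.Hom.comp_apply, hd2])
  obtain ⟨U', hU', huU', -⟩ := exists_isAffineOpen_mem_and_subset (U := (⊤ : U.Opens)) (x := uu) trivial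
  obtain ⟨D, hD, hdD, hDsub⟩ := exists_isAffineOpen_mem_and_subset
    (U := pullback.fst gU σ ⁻¹ᵁ U' ⊓ τ ⁻¹ᵁ Vs k)
    (show d ∈ pullback.fst gU σ ⁻¹ᵁ U' ⊓ τ ⁻¹ᵁ Vs k from
      ⟨show pullback.fst gU σ d ∈ U' by rw [hd1]; exact huU', hwk⟩)
  have hDU : D ≤ pullback.fst gU σ ⁻¹ᵁ U' := fun z hz ↦ (hDsub hz).1
  let C := Γ(U, U')
  let A := Γ(W₀, D)
  let πC : CommRingCat.of R ⟶ C := Spec.preimage (hU'.fromSpec ≫ gU ≫ p)
  let χ : C ⟶ A := (pullback.fst gU σ).appLE U' D hDU
  let ψ : CommRingCat.of R ⟶ A := πC ≫ χ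
  have hχ : Spec.map χ ≫ hU'.fromSpec = hD.fromSpec ≫ pullback.fst gU σ :=
    IsAffineOpen.SpecMap_appLE_fromSpec _ hU' hD hDU
  have hψ : Spec.map ψ = hD.fromSpec ≫ pullback.snd gU σ := by
    rw [Spec.map_comp, Spec.map_preimage, reassoc_of% hχ, pullback.condition_assoc, hσp,
      Category.comp_id]
  haveI : Etale (pullback.snd gU σ) := MorphismProperty.pullback_snd _ _ hgU
  haveI : Etale (Spec.map ψ) := by rw [hψ]; infer_instance
  letI : Algebra R A := ψ.hom.toAlgebra
  letI : Algebra R C := πC.hom.toAlgebra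
  refine ⟨A, inferInstance, inferInstance, ?_, ?_, ?_, ?_⟩
  · exact (HasRingHomProperty.Spec_iff (P := @Flat) (φ := ψ)).mp inferInstance
  · exact (Spec.map ψ).isOpenMap.isOpen_range
  · obtain ⟨d', hd'⟩ : d ∈ Set.range hD.fromSpec := by rw [hD.range_fromSpec]; exact hdD
    refine ⟨d', ?_⟩
    show Spec.map ψ d' = s
    rw [hψ, Scheme.Hom.comp_apply, hd', hd2]
  let B := (A : Type u) ⊗[R] (C : Type u)
  let incC : (C : Type u) →+* B :=
    (Algebra.TensorProduct.includeRight : C →ₐ[R] B).toRingHom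
  have sq : IsPullback (Spec.map (CommRingCat.ofHom incC))
      (Spec.map (CommRingCat.ofHom (algebraMap A B))) (Spec.map πC) (Spec.map ψ) :=
    isPullback_SpecMap_of_isPushout _ _ _ _ (CommRingCat.isPushout_tensorProduct R A C).flip
  let ωC := hU'.fromSpec ≫ gU ≫ pullback.fst X.hom g
  have wC : ωC ≫ X.hom = Spec.map πC ≫ g := by
    rw [Spec.map_preimage, Category.assoc, Category.assoc, Category.assoc, Category.assoc,
      pullback.condition]
  have hetC : Etale (pullback.lift ωC (Spec.map πC) wC) := by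
    rw [show pullback.lift ωC (Spec.map πC) wC = hU'.fromSpec ≫ gU by
      apply pullback.hom_ext
      · rw [pullback.lift_fst, Category.assoc]
      · rw [pullback.lift_snd, Spec.map_preimage, Category.assoc]]
    infer_instance
  let ρ : Spec (CommRingCat.of B) ⟶ U := Spec.map (CommRingCat.ofHom incC) ≫ hU'.fromSpec
  let ω : Spec (CommRingCat.of B) ⟶ X.left := Spec.map (CommRingCat.ofHom incC) ≫ ωC
  have wB : ω ≫ X.hom = Spec.map (CommRingCat.ofHom (algebraMap A B)) ≫ (Spec.map ψ ≫ g) := by
    rw [Category.assoc, wC, sq.w_assoc]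
  haveI : Etale (pullback.lift ω _ wB) := chart_bc @Etale wC hetC sq
  haveI : Algebra.Smooth A B := by
    haveI : Smooth (Spec.map (CommRingCat.ofHom (algebraMap A B))) := by
      rw [← pullback.lift_snd ω _ wB]; infer_instance
    exact RingHom.smooth_algebraMap.mp ((HasRingHomProperty.Spec_iff (P := @Smooth)).mp this)
  let χ' : (C : Type u) →ₐ[R] (A : Type u) := ⟨χ.hom, fun _ ↦ rfl⟩
  let e : B →ₐ[A] A :=
    Algebra.TensorProduct.lift (AlgHom.id A A) χ' fun _ _ ↦ Commute.all _ _
  -- the closed piece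
  let c := (Vs k).ι ≫ pullback.snd jR gU
  haveI : IsClosedImmersion c := (hcl k).1
  haveI : LocallyOfFinitePresentation c := by
    haveI : LocallyOfFinitePresentation (pullback.snd jR gU) := MorphismProperty.pullback_snd _ _ ‹_›
    infer_instance
  obtain ⟨J, eI, heI⟩ := (IsClosedImmersion.Spec_iff (R := CommRingCat.of B)
    (f := pullback.fst ρ c)).mp inferInstance
  have hJfg : J.FG := by
    haveI : LocallyOfFinitePresentation
        (Spec.map (CommRingCat.ofHom (Ideal.Quotient.mk J))) := by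
      have : LocallyOfFinitePresentation (eI.inv ≫ pullback.fst ρ c) := inferInstance
      rwa [heI, Iso.inv_hom_id_assoc] at this
    have hq : (Ideal.Quotient.mk J).FinitePresentation :=
      (HasRingHomProperty.Spec_iff (P := @LocallyOfFinitePresentation)).mp this
    have hfp' : Algebra.FinitePresentation B (B ⧸ J) := hq
    have := Algebra.FinitePresentation.ker_fG_of_surjective (Ideal.Quotient.mkₐ B J)
      Ideal.Quotient.mk_surjective
    rwa [show RingHom.ker (Ideal.Quotient.mkₐ B J).toRingHom = J from Ideal.Quotient.mkₐ_ker B J] at this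
  have hJ1 : ∃ l, l ≫ i.left = Spec.map (CommRingCat.ofHom (Ideal.Quotient.mk J)) ≫ ω := by
    refine ⟨eI.inv ≫ pullback.snd ρ c ≫ (Vs k).ι ≫ pullback.fst jR gU ≫
      pullback.fst i.left (pullback.fst X.hom g), ?_⟩
    have h1 : pullback.fst ρ c ≫ ω = pullback.fst ρ c ≫ ρ ≫ gU ≫ pullback.fst X.hom g := by
      simp [ω, ρ, ωC]
    have h2 : eI.inv ≫ pullback.fst ρ c = Spec.map (CommRingCat.ofHom (Ideal.Quotient.mk J)) := by
      rw [heI, Iso.inv_hom_id_assoc]
    rw [← h2]
    simp only [Category.assoc]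
    rw [h1, pullback.condition_assoc]
    simp only [c, Category.assoc]
    rw [pullback.condition, ← pullback.condition_assoc (f := jR) (g := gU)]
  obtain ⟨K', hK, hKfg⟩ := exists_ideal_groupChart i e (Spec.map ψ ≫ g) ω wB J hJfg hJ1
    fun T _ _ h x hx ↦ by
      let φ := algebraMap (A : Type u) T
      let B' := T ⊗[(A : Type u)] B
      let e' := bcSection e T
      let incR : B →+* B' := (Algebra.TensorProduct.includeRight : B →ₐ[(A : Type u)] B').toRingHom
      let ω' : Spec (CommRingCat.of B') ⟶ Spec (CommRingCat.of B) := Spec.map (CommRingCat.ofHom incR)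
      let π' : Spec (CommRingCat.of B') ⟶ Spec (CommRingCat.of T) :=
        Spec.map (CommRingCat.ofHom (algebraMap T B'))
      have sq' : IsPullback ω' π' (Spec.map (CommRingCat.ofHom (algebraMap (A : Type u) B)))
          (Spec.map (CommRingCat.ofHom φ)) :=
        isPullback_SpecMap_of_isPushout _ _ _ _ (CommRingCat.isPushout_tensorProduct (A : Type u) T B).flip
      obtain ⟨l, hl⟩ := h
      let a := Spec.map (CommRingCat.ofHom φ) ≫ Spec.map ψ ≫ g
      let m := pullback.lift (f := X.hom) (g := a) (ω' ≫ ω) π'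
        (by rw [Category.assoc, wB, sq'.w_assoc])
      let lR : Spec (CommRingCat.of B') ⟶ pullback i.left (pullback.fst X.hom g) :=
        pullback.lift (m ≫ l) (ω' ≫ ρ ≫ gU) (by
          rw [Category.assoc, hl, pullback.lift_fst]
          simp [ω, ρ, ωC])
      let lU : Spec (CommRingCat.of B') ⟶ pullback jR gU :=
        pullback.lift lR (ω' ≫ ρ) (by rw [pullback.lift_snd]; simp only [ρ, Category.assoc])
      refine exists_fixed_of_nbhd e'.toRingHom
        (fun r ↦ ⟨algebraMap T B' r, e'.commutes r⟩) _ fun p ↦ ?_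
      -- the section point lies in the piece
      have hsec : Spec.map (CommRingCat.ofHom e'.toRingHom) ≫ lU =
          Spec.map (CommRingCat.ofHom φ) ≫ hD.fromSpec ≫ τ := by
        haveI : Mono (pullback.snd jR gU) := inferInstance
        rw [← cancel_mono (pullback.snd jR gU)]
        simp only [lU, τ, Category.assoc, pullback.lift_snd]
        rw [← hχ]
        simp only [ω', ρ, ← Spec.map_comp_assoc]
        congr 2
        refine CommRingCat.hom_ext (RingHom.ext fun z ↦ ?_)
        show e' ((1 : T) ⊗ₜ[(A : Type u)] ((1 : A) ⊗ₜ[R] z)) = φ (χ z)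
        rw [bcSection_tmul, _root_.one_mul]
        congr 1
        exact (Algebra.TensorProduct.lift_tmul ..).trans (_root_.one_mul _)
      have hp : PrimeSpectrum.comap e'.toRingHom p ∈ lU ⁻¹ᵁ Vs k := by
        change (Spec.map (CommRingCat.ofHom e'.toRingHom) ≫ lU) p ∈ Vs k
        rw [hsec, Scheme.Hom.comp_apply, Scheme.Hom.comp_apply]
        refine (hDsub ?_).2
        have : hD.fromSpec (Spec.map (CommRingCat.ofHom φ) p) ∈ Set.range hD.fromSpec := ⟨_, rfl⟩
        rwa [hD.range_fromSpec] at this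
      obtain ⟨_, ⟨_, ⟨b, rfl⟩, rfl⟩, hpb, hbsub⟩ := PrimeSpectrum.isBasis_basic_opens.exists_subset_of_mem_open
        hp (lU ⁻¹ᵁ Vs k).isOpen
      refine ⟨b, hpb, ?_⟩
      let ob : Spec (CommRingCat.of (Localization.Away b)) ⟶ Spec (CommRingCat.of B') :=
        Spec.map (CommRingCat.ofHom (algebraMap B' (Localization.Away b)))
      have hrange : Set.range (ob ≫ lU) ⊆ Set.range (Vs k).ι := by
        rintro _ ⟨z, rfl⟩
        rw [Scheme.Opens.range_ι, Scheme.Hom.comp_apply]
        refine hbsub ?_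
        rw [← PrimeSpectrum.localization_away_comap_range (Localization.Away b) b]
        exact ⟨z, rfl⟩
      let lV := IsOpenImmersion.lift (Vs k).ι (ob ≫ lU) hrange
      have hlV : lV ≫ c = (ob ≫ ω') ≫ ρ := by
        rw [← Category.assoc, IsOpenImmersion.lift_fac, Category.assoc, Category.assoc]
        exact congrArg (ob ≫ ·) (pullback.lift_snd _ _ _)
      let θ := Spec.preimage (pullback.lift (ob ≫ ω') lV hlV.symm ≫ eI.hom)
      have hθ : CommRingCat.ofHom (Ideal.Quotient.mk J) ≫ θ =
          CommRingCat.ofHom incR ≫ CommRingCat.ofHom (algebraMap B' (Localization.Away b)) := by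
        apply Spec.map_injective
        rw [Spec.map_comp, Spec.map_preimage, Category.assoc, ← heI, pullback.lift_fst, Spec.map_comp]
      have := ConcreteCategory.congr_hom hθ x
      change θ (Ideal.Quotient.mk J x) = algebraMap B' (Localization.Away b) ((1 : T) ⊗ₜ x) at this
      rw [← this, Ideal.Quotient.eq_zero_iff_mem.mpr hx, map_zero]
  refine ⟨K', fun T _ φ ↦ ?_, fun _ ↦ hKfg⟩
  rw [← hK T φ, ← Category.assoc, ← Spec.map_comp]
  rfl

/-- The closed locus where `i` is an isomorphism. -/
theorem exists_groupLocus :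
    ∃ (T : Scheme.{u}) (t : T ⟶ S), IsClosedImmersion t ∧ LocallyOfFinitePresentation t ∧
      ∀ (S' : Scheme.{u}) (g : S' ⟶ S), (∃ g' : S' ⟶ T, g' ≫ t = g) ↔ Factors X.hom i.left g := by
  haveI : Mono i.left := (Over.forget S).map_mono i
  obtain ⟨T, t, ht, hT, hfp⟩ := exists_locus_of_nbhds (Q := True)
    fun R _ g s ↦ hasNbhdIdeal_group i g s
  exact ⟨T, t, ht, hfp trivial, hT⟩

end Groth.SmoothWeil
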