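import Mathlib

/-!
Infinitesimal neighbourhoods of a section of a smooth algebra: they are finite projective, and an
element vanishing on all of them vanishes near the section.
-/

set_option autoImplicit false
universe u v

open TensorProduct

noncomputable section

namespace Groth.SmoothWeil

section Projective

variable {R : Type u} [CommRing R]

open MvPolynomial in
/-- `R[x] / (x)^n` is finite and projective. -/
theorem projective_quotient_idealOfVars (σ : Type v) [Finite σ] (n : ℕ) :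
    Module.Projective R (MvPolynomial σ R ⧸ (idealOfVars σ R ^ n : Ideal (MvPolynomial σ R))) ∧
      Module.Finite R (MvPolynomial σ R ⧸ (idealOfVars σ R ^ n : Ideal (MvPolynomial σ R))) := by
  classical
  let s : Set (σ →₀ ℕ) := {d | Finsupp.degree d < n}
  haveI : Finite s := (Finsupp.finite_of_degree_lt n).to_subtype
  cases nonempty_fintype s
  let q : MvPolynomial σ R →ₗ[R] (s → R) := LinearMap.pi fun d : s ↦ lcoeff R d.1
  have hq : Function.Surjective q := fun v ↦ by
    refine ⟨∑ d : s, monomial d.1 (v d), funext fun d ↦ ?_⟩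
    simp only [q, LinearMap.pi_apply, lcoeff_apply, coeff_sum, coeff_monomial]
    rw [Finset.sum_eq_single d] <;> simp +contextual [Subtype.val_injective.eq_iff]
  have hker : LinearMap.ker q = Submodule.restrictScalars R (idealOfVars σ R ^ n) := by
    ext p
    rw [LinearMap.mem_ker, Submodule.restrictScalars_mem, mem_pow_idealOfVars_iff']
    exact ⟨fun h x hx ↦ congr_fun h ⟨x, hx⟩, fun h ↦ funext fun d ↦ h d.1 d.2⟩
  let e : (MvPolynomial σ R ⧸ (idealOfVars σ R ^ n : Ideal (MvPolynomial σ R))) ≃ₗ[R] (s → R) :=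
    (Submodule.Quotient.restrictScalarsEquiv R _).symm ≪≫ₗ
      (Submodule.quotEquivOfEq _ _ hker.symm) ≪≫ₗ q.quotKerEquivOfSurjective hq
  exact ⟨Module.Projective.of_equiv e.symm, Module.Finite.equiv e.symm⟩

variable {B : Type u} [CommRing B] [Algebra R B] [Algebra.Smooth R B]

/-- The infinitesimal neighbourhoods of a section of a smooth algebra are finite projective. -/
theorem projective_quotient_pow (e : B →ₐ[R] R) (n : ℕ) :
    Module.Projective R (B ⧸ RingHom.ker e ^ n) ∧ Module.Finite R (B ⧸ RingHom.ker e ^ n) := by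
  haveI : Algebra.FiniteType R B := inferInstance
  obtain ⟨m, π₀, hπ₀⟩ := Algebra.FiniteType.iff_quotient_mvPolynomial''.mp ‹Algebra.FiniteType R B›
  let a : Fin m → R := fun i ↦ e (π₀ (MvPolynomial.X i))
  let sh : MvPolynomial (Fin m) R →ₐ[R] MvPolynomial (Fin m) R :=
    MvPolynomial.aeval fun i ↦ MvPolynomial.X i + MvPolynomial.C (a i)
  let π : MvPolynomial (Fin m) R →ₐ[R] B :=
    MvPolynomial.aeval fun i ↦ π₀ (MvPolynomial.X i) - algebraMap R B (a i)
  have hπsh : π.comp sh = π₀ := MvPolynomial.algHom_ext fun i ↦ by simp [π, sh]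
  have hπ : Function.Surjective π := fun b ↦ by
    obtain ⟨p, rfl⟩ := hπ₀ b
    exact ⟨sh p, AlgHom.congr_fun hπsh p⟩
  let 𝔞 := MvPolynomial.idealOfVars (Fin m) R
  have heπ : e.comp π = MvPolynomial.aeval (0 : Fin m → R) :=
    MvPolynomial.algHom_ext fun i ↦ by simp [π, a]
  have hker : RingHom.ker (MvPolynomial.aeval (0 : Fin m → R)) ≤ 𝔞 := fun p hp ↦ by
    show p ∈ MvPolynomial.idealOfVars (Fin m) R
    rw [← pow_one (MvPolynomial.idealOfVars (Fin m) R), MvPolynomial.mem_pow_idealOfVars_iff']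
    intro x hx
    rw [Nat.lt_one_iff, Finsupp.degree_eq_zero_iff] at hx
    subst hx
    simpa [MvPolynomial.constantCoeff_eq] using hp
  have hle : 𝔞.map π ≤ RingHom.ker e := by
    rw [Ideal.map_le_iff_le_comap, Ideal.span_le]
    rintro _ ⟨i, rfl⟩
    simp [π, a]
  have hge : RingHom.ker e ≤ 𝔞.map π := fun b hb ↦ by
    obtain ⟨p, rfl⟩ := hπ b
    refine Ideal.mem_map_of_mem _ (hker ?_)
    rw [RingHom.mem_ker, ← heπ]
    exact hb
  let P := MvPolynomial (Fin m) R ⧸ 𝔞 ^ n
  let πn : P →ₐ[R] B ⧸ RingHom.ker e ^ n :=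
    Ideal.quotientMapₐ _ π (by
      rw [← Ideal.map_le_iff_le_comap, Ideal.map_pow]
      exact Ideal.pow_right_mono hle n)
  have hsurj : Function.Surjective πn := fun z ↦ by
    obtain ⟨b, rfl⟩ := Ideal.Quotient.mk_surjective z
    obtain ⟨p, rfl⟩ := hπ b
    exact ⟨Ideal.Quotient.mk _ p, rfl⟩
  have hnil : ∀ p ∈ RingHom.ker πn, ∀ q : MvPolynomial (Fin m) R,
      Ideal.Quotient.mk (𝔞 ^ n) q = p → 1 ≤ n → q ∈ 𝔞 := by
    intro p hp q hq hn
    apply hker
    rw [RingHom.mem_ker, ← heπ]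
    subst hq
    have : π q ∈ RingHom.ker e ^ n := Ideal.Quotient.eq_zero_iff_mem.mp hp
    exact Ideal.pow_le_self (by omega) this
  have hpow : RingHom.ker πn ^ n = ⊥ := by
    rcases Nat.eq_zero_or_pos n with rfl | hn
    · haveI : Subsingleton P := Ideal.Quotient.subsingleton_iff.mpr (by rw [pow_zero, Ideal.one_eq_top])
      exact Subsingleton.elim _ _
    · refine le_bot_iff.mp ?_
      have hsub : RingHom.ker πn ≤ 𝔞.map (Ideal.Quotient.mk (𝔞 ^ n)) := fun p hp ↦ by
        obtain ⟨q, rfl⟩ := Ideal.Quotient.mk_surjective p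
        exact Ideal.mem_map_of_mem _ (hnil _ hp q rfl hn)
      refine (Ideal.pow_right_mono hsub n).trans ?_
      rw [← Ideal.map_pow, Ideal.map_quotient_self]
  let σ : B →ₐ[R] P := Algebra.FormallySmooth.liftOfSurjective
    (Ideal.Quotient.mkₐ R (RingHom.ker e ^ n)) πn hsurj ⟨n, hpow⟩
  have hσ : ∀ b, πn (σ b) = Ideal.Quotient.mk _ b :=
    Algebra.FormallySmooth.liftOfSurjective_apply _ _ _ _
  have hσker : RingHom.ker e ^ n ≤ RingHom.ker σ := by
    rcases Nat.eq_zero_or_pos n with rfl | hn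
    · haveI : Subsingleton P := Ideal.Quotient.subsingleton_iff.mpr (by rw [pow_zero, Ideal.one_eq_top])
      exact fun b _ ↦ Subsingleton.elim _ _
    have h1 : RingHom.ker e ≤ (𝔞.map (Ideal.Quotient.mk (𝔞 ^ n))).comap σ := fun b hb ↦ by
      obtain ⟨q, hq⟩ := Ideal.Quotient.mk_surjective (σ b)
      show σ b ∈ 𝔞.map _
      rw [← hq]
      refine Ideal.mem_map_of_mem _ (hker ?_)
      rw [RingHom.mem_ker, ← heπ]
      have e1 := hσ b
      rw [← hq] at e1
      have h2 : π q - b ∈ RingHom.ker e ^ n := Ideal.Quotient.eq.mp e1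
      have h3 := Ideal.pow_le_self (by omega) h2
      rw [RingHom.mem_ker, map_sub, show e b = 0 from hb, sub_zero] at h3
      exact h3
    refine (Ideal.pow_right_mono h1 n).trans ?_
    refine (Ideal.le_comap_pow _ n).trans ?_
    rw [← Ideal.map_pow, Ideal.map_quotient_self]
    exact fun b hb ↦ hb
  let sec : (B ⧸ RingHom.ker e ^ n) →ₗ[R] P := (Ideal.Quotient.liftₐ _ σ hσker).toLinearMap
  have hsec : πn.toLinearMap.comp sec = LinearMap.id := LinearMap.ext fun z ↦ by
    obtain ⟨b, rfl⟩ := Ideal.Quotient.mk_surjective z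
    exact hσ b
  obtain ⟨hp, hf⟩ := projective_quotient_idealOfVars (R := R) (Fin m) n
  haveI : Module.Projective R P := hp
  haveI : Module.Finite R P := hf
  exact ⟨Module.Projective.of_split sec πn.toLinearMap hsec,
    Module.Finite.of_surjective πn.toLinearMap hsurj⟩

end Projective

section Coeff

variable {R : Type u} [CommRing R] {M : Type u} [AddCommGroup M] [Module R M]

/-- The ideal of coefficients of a set of elements. -/
def coeffSpan (s : Set M) : Ideal R :=
  Ideal.span {r | ∃ φ : Module.Dual R M, ∃ x ∈ s, r = φ x}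

variable [Module.Projective R M]

/-- An algebra kills a set of elements exactly when it kills their coefficients. -/
theorem forall_tmul_eq_zero_iff (s : Set M) (R' : Type u) [CommRing R'] [Algebra R R'] :
    (∀ x ∈ s, (1 : R') ⊗ₜ[R] x = 0) ↔ coeffSpan s ≤ RingHom.ker (algebraMap R R') := by
  constructor
  · intro h
    rw [coeffSpan, Ideal.span_le]
    rintro _ ⟨φ, x, hx, rfl⟩
    have := congrArg (TensorProduct.rid R R' ∘ LinearMap.lTensor R' φ) (h x hx)
    simpa [Algebra.algebraMap_eq_smul_one] using this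
  · intro h x hx
    obtain ⟨sec, hsec⟩ := (Module.projective_def' (R := R) (P := M)).mp inferInstance
    have hx' : x = Finsupp.linearCombination R id (sec x) := (LinearMap.congr_fun hsec x).symm
    rw [hx', Finsupp.linearCombination_apply, Finsupp.sum, TensorProduct.tmul_sum]
    refine Finset.sum_eq_zero fun m _ ↦ ?_
    have hc : algebraMap R R' (sec x m) = 0 :=
      h (Ideal.subset_span ⟨(Finsupp.lapply m).comp sec, x, hx, rfl⟩)
    rw [id, ← TensorProduct.smul_tmul, ← Algebra.algebraMap_eq_smul_one, hc, TensorProduct.zero_tmul]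

end Coeff

section Near

variable {R : Type u} [CommRing R] {B : Type u} [CommRing B] [Algebra R B]

/-- The kernel of a section is generated by the differences with the constants. -/
theorem mem_map_of_mem_ker {R₀ B₀ : Type u} [CommRing R₀] [CommRing B₀] [Algebra R₀ B₀]
    [Algebra R₀ R] (e₀ : B₀ →ₐ[R₀] R₀) (E : B₀ ⊗[R₀] R →ₐ[R₀] R)
    (hE : ∀ b r, E (b ⊗ₜ r) = e₀ b • r) {x : B₀ ⊗[R₀] R} (hx : E x = 0) :
    x ∈ (RingHom.ker e₀).map (Algebra.TensorProduct.includeLeft : B₀ →ₐ[R₀] B₀ ⊗[R₀] R) := by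
  suffices key : ∀ y : B₀ ⊗[R₀] R, y - (1 : B₀) ⊗ₜ E y ∈
      (RingHom.ker e₀).map (Algebra.TensorProduct.includeLeft : B₀ →ₐ[R₀] B₀ ⊗[R₀] R) by
    simpa [hx] using key x
  intro y
  induction y using TensorProduct.induction_on with
  | zero => simp
  | tmul b r =>
    have hb : b ⊗ₜ[R₀] r - (1 : B₀) ⊗ₜ E (b ⊗ₜ r) =
        ((1 : B₀) ⊗ₜ[R₀] r) * ((b - algebraMap R₀ B₀ (e₀ b)) ⊗ₜ[R₀] (1 : R)) := by
      rw [hE, Algebra.TensorProduct.tmul_mul_tmul, _root_.one_mul, _root_.mul_one, TensorProduct.sub_tmul,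
        Algebra.algebraMap_eq_smul_one, TensorProduct.smul_tmul]
    rw [hb]
    exact Ideal.mul_mem_left _ _ (Ideal.mem_map_of_mem _ (by simp))
  | add y z hy hz =>
    rw [map_add, TensorProduct.tmul_add, add_sub_add_comm]
    exact Ideal.add_mem _ hy hz

theorem mem_ker_pow_of_equiv {B C T : Type u} [CommRing B] [CommRing C] [CommRing T] (ψ : B ≃+* C)
    (e : B →+* T) (E : C →+* T) (h : ∀ x, E (ψ x) = e x) {f : B} {n : ℕ}
    (hf : f ∈ RingHom.ker e ^ n) : ψ f ∈ RingHom.ker E ^ n := by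
  have hle : (RingHom.ker e).map (ψ : B →+* C) ≤ RingHom.ker E := by
    rw [Ideal.map_le_iff_le_comap]
    intro x hx
    show E (ψ x) = 0
    rw [h]
    exact hx
  exact (Ideal.pow_right_mono hle n) (Ideal.map_pow (ψ : B →+* C) (RingHom.ker e) n ▸
    Ideal.mem_map_of_mem (ψ : B →+* C) hf)

/-- An element of the powers of the kernel of a section of a smooth algebra is fixed by an
element of the kernel. -/
theorem exists_mul_eq_self_of_model {R₀ B₀ : Type u} [CommRing R₀] [IsNoetherianRing R₀]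
    [CommRing B₀] [Algebra R₀ B₀] [Algebra.Smooth R₀ B₀] [Algebra R₀ R] (e₀ : B₀ →ₐ[R₀] R₀)
    (E : B₀ ⊗[R₀] R →ₐ[R₀] R) (hE : ∀ b r, E (b ⊗ₜ r) = e₀ b • r) (f : B₀ ⊗[R₀] R)
    (hf : ∀ n, f ∈ RingHom.ker E ^ n) : ∃ t ∈ RingHom.ker E, t * f = f := by
  haveI : IsNoetherianRing B₀ := Algebra.FiniteType.isNoetherianRing R₀ B₀
  let I := RingHom.ker e₀
  obtain ⟨N, hN, fN, hfN⟩ : ∃ N : Submodule R₀ R, Module.Finite R₀ N ∧
      f ∈ LinearMap.range (LinearMap.lTensor B₀ N.subtype) := by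
    obtain ⟨S, hS⟩ := TensorProduct.exists_finset f
    refine ⟨Submodule.span R₀ (Prod.snd '' (S : Set (B₀ × R))),
      Module.Finite.span_of_finite R₀ (S.finite_toSet.image _),
      ∑ z : S, z.1.1 ⊗ₜ ⟨z.1.2, Submodule.subset_span ⟨z.1, z.2, rfl⟩⟩, ?_⟩
    rw [hS, map_sum]
    conv_rhs => rw [← Finset.sum_coe_sort]
    exact Finset.sum_congr rfl fun z _ ↦ rfl
  subst hfN
  haveI := hN
  have hle : RingHom.ker E ≤
      I.map (Algebra.TensorProduct.includeLeft : B₀ →ₐ[R₀] B₀ ⊗[R₀] R) :=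
    fun x hx ↦ mem_map_of_mem_ker e₀ E hE hx
  have key : ∀ n, fN ∈ (I ^ n • ⊤ : Submodule B₀ (B₀ ⊗[R₀] N)) := by
    intro n
    haveI := (projective_quotient_pow e₀ n).1
    haveI : Module.Flat R₀ (B₀ ⧸ I ^ n) := Module.Flat.of_projective
    let p : B₀ →ₗ[R₀] B₀ ⧸ I ^ n := (Ideal.Quotient.mkₐ R₀ (I ^ n)).toLinearMap
    have hinj : Function.Injective (LinearMap.lTensor (B₀ ⧸ I ^ n) N.subtype) :=
      Module.Flat.lTensor_preserves_injective_linearMap _ N.subtype_injective
    have h0 : LinearMap.rTensor N p fN = 0 := by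
      apply hinj
      rw [map_zero, ← LinearMap.comp_apply, LinearMap.lTensor_comp_rTensor, ←
        LinearMap.rTensor_comp_lTensor, LinearMap.comp_apply]
      let pR : B₀ ⊗[R₀] R →ₐ[R₀] (B₀ ⧸ I ^ n) ⊗[R₀] R :=
        Algebra.TensorProduct.map (Ideal.Quotient.mkₐ R₀ (I ^ n)) (AlgHom.id R₀ R)
      have hpR : LinearMap.rTensor R p = pR.toLinearMap := TensorProduct.ext' fun b r ↦ rfl
      rw [hpR]
      show pR (LinearMap.lTensor B₀ N.subtype fN) = 0
      refine (?_ : RingHom.ker E ^ n ≤ RingHom.ker pR) (hf n)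
      refine (Ideal.pow_right_mono hle n).trans ?_
      rw [← Ideal.map_pow, Ideal.map_le_iff_le_comap]
      intro b hb
      show pR (b ⊗ₜ 1) = 0
      simp [pR, Ideal.Quotient.eq_zero_iff_mem.mpr hb]
    have hex := rTensor_exact N (f := ((I ^ n).restrictScalars R₀).subtype) (g := p)
      (LinearMap.exact_iff.mpr (by
        ext b
        simp [p, Ideal.Quotient.eq_zero_iff_mem]))
      Ideal.Quotient.mk_surjective
    obtain ⟨z, hz⟩ := (hex fN).mp h0
    rw [← hz]
    clear hz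
    induction z using TensorProduct.induction_on with
    | zero => simp
    | tmul b x =>
      rw [LinearMap.rTensor_tmul, show ((I ^ n).restrictScalars R₀).subtype b ⊗ₜ[R₀] x =
        (b : B₀) • ((1 : B₀) ⊗ₜ[R₀] x) by simp [TensorProduct.smul_tmul']]
      exact Submodule.smul_mem_smul b.2 trivial
    | add y z hy hz => rw [map_add]; exact Submodule.add_mem _ hy hz
  obtain ⟨r, hr⟩ := (I.mem_iInf_smul_pow_eq_bot_iff fN).mp (Submodule.mem_iInf _ |>.mpr key)
  refine ⟨(r : B₀) ⊗ₜ 1, ?_, ?_⟩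
  · rw [RingHom.mem_ker, hE, show e₀ r = 0 from r.2, zero_smul]
  · conv_rhs => rw [← hr]
    generalize fN = z
    induction z using TensorProduct.induction_on with
    | zero => simp
    | tmul b x => simp [TensorProduct.smul_tmul']
    | add y z hy hz => simp only [smul_add, map_add, mul_add, hy, hz]

theorem exists_mul_eq_self_of_descent {A₁ C : Type u} [CommRing A₁] [IsNoetherianRing A₁]
    [CommRing C] [Algebra A₁ C] [Algebra.Smooth A₁ C] [Algebra A₁ R] (e : B →ₐ[R] R) (f : B)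
    (hf : ∀ n, f ∈ RingHom.ker e ^ n) (e₁ : C →ₐ[A₁] A₁) (ψ : C ⊗[A₁] R ≃+* B)
    (h : ∀ c r, e (ψ (c ⊗ₜ r)) = e₁ c • r) : ∃ t ∈ RingHom.ker e, t * f = f := by
  let E : C ⊗[A₁] R →ₐ[A₁] R :=
    Algebra.TensorProduct.lift ((Algebra.ofId A₁ R).comp e₁) (AlgHom.id A₁ R)
      fun _ _ ↦ Commute.all _ _
  have hE : ∀ c r, E (c ⊗ₜ r) = e₁ c • r := fun c r ↦ by simp [E, Algebra.smul_def, Algebra.ofId]
  have hEψ : ∀ z, e (ψ z) = E z := fun z ↦ by
    induction z using TensorProduct.induction_on with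
    | zero => simp
    | tmul c r => rw [h, hE]
    | add x y hx hy => simp only [map_add, hx, hy]
  have hmap : ∀ n, ψ.symm f ∈ RingHom.ker E ^ n := fun n ↦
    mem_ker_pow_of_equiv ψ.symm e.toRingHom E.toRingHom
      (fun x ↦ by
        show E (ψ.symm x) = e x
        rw [← hEψ, RingEquiv.apply_symm_apply]) (hf n)
  obtain ⟨t, ht, htf⟩ := exists_mul_eq_self_of_model e₁ E hE (ψ.symm f) hmap
  refine ⟨ψ t, ?_, ψ.symm.injective (by rw [map_mul, RingEquiv.symm_apply_apply, htf])⟩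
  show e (ψ t) = 0
  rw [hEψ]
  exact ht

/-- An element vanishing on all infinitesimal neighbourhoods of a section of a smooth algebra is
killed by `1 - t` with `t` in the kernel of the section. -/
theorem exists_mul_eq_self [Algebra.Smooth R B] (e : B →ₐ[R] R) (f : B)
    (hf : ∀ n, f ∈ RingHom.ker e ^ n) : ∃ t ∈ RingHom.ker e, t * f = f := by
  classical
  obtain ⟨A₀, B₀, _, _, hA₀, hB₀, ⟨Φ⟩⟩ := Algebra.Smooth.exists_subalgebra_fg ℤ R B
  haveI := hB₀
  obtain ⟨s, hs⟩ := (inferInstance : Algebra.FiniteType A₀ B₀).out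
  let g : B₀ → R := fun b ↦ e (Φ.symm (1 ⊗ₜ b))
  let A₁ : Subalgebra ℤ R := A₀ ⊔ Algebra.adjoin ℤ (g '' (s : Set B₀))
  haveI : IsNoetherianRing A₁ := by
    have : Algebra.FiniteType ℤ A₁ :=
      (Subalgebra.fg_iff_finiteType A₁).mp (hA₀.sup ⟨s.image g, by simp⟩)
    exact Algebra.FiniteType.isNoetherianRing ℤ A₁
  letI : Algebra A₀ A₁ := (Subalgebra.inclusion le_sup_left).toAlgebra
  haveI : IsScalarTower A₀ A₁ R := IsScalarTower.of_algebraMap_eq fun _ ↦ rfl
  let gA : B₀ →ₐ[A₀] R :=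
    ((e.restrictScalars A₀).comp (Φ.symm.toAlgHom.restrictScalars A₀)).comp
      Algebra.TensorProduct.includeRight
  have hgA : ∀ b, gA b ∈ A₁ := by
    intro b
    have hb : b ∈ Algebra.adjoin A₀ (s : Set B₀) := by rw [hs]; trivial
    induction hb using Algebra.adjoin_induction with
    | mem x hx =>
      exact (le_sup_right : Algebra.adjoin ℤ (g '' (s : Set B₀)) ≤ A₁)
        (Algebra.subset_adjoin ⟨x, hx, rfl⟩)
    | algebraMap r =>
      rw [AlgHom.commutes]
      exact (le_sup_left : A₀ ≤ A₁) r.2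
    | add x y _ _ hx hy => rw [map_add]; exact add_mem hx hy
    | mul x y _ _ hx hy => rw [map_mul]; exact mul_mem hx hy
  let h₁ : B₀ →ₐ[A₀] A₁ :=
    { toFun := fun b ↦ ⟨gA b, hgA b⟩
      map_one' := Subtype.ext (map_one gA)
      map_mul' := fun x y ↦ Subtype.ext (map_mul gA x y)
      map_zero' := Subtype.ext (map_zero gA)
      map_add' := fun x y ↦ Subtype.ext (map_add gA x y)
      commutes' := fun r ↦ Subtype.ext (gA.commutes r) }
  let e₁ : A₁ ⊗[A₀] B₀ →ₐ[A₁] A₁ :=
    Algebra.TensorProduct.lift (AlgHom.id A₁ A₁) h₁ fun _ _ ↦ Commute.all _ _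
  let Ψ : B ≃ₐ[A₁] (A₁ ⊗[A₀] B₀) ⊗[A₁] R :=
    ((Φ.restrictScalars A₁).trans
      ((Algebra.TensorProduct.cancelBaseChange A₀ A₁ A₁ R B₀).symm)).trans
      (Algebra.TensorProduct.comm A₁ R (A₁ ⊗[A₀] B₀))
  have hE : ∀ b r, e (Ψ.symm (b ⊗ₜ r)) = e₁ b • r := by
    intro b r
    induction b using TensorProduct.induction_on with
    | zero => simp
    | tmul a b =>
      have e1 : Ψ.symm ((a ⊗ₜ[A₀] b) ⊗ₜ[A₁] r) = Φ.symm ((a • r) ⊗ₜ[A₀] b) := by
        simp only [Ψ, AlgEquiv.symm_trans_apply, AlgEquiv.symm_symm,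
          Algebra.TensorProduct.comm_symm_tmul, Algebra.TensorProduct.cancelBaseChange_tmul]
        rfl
      have e2 : (a • r) ⊗ₜ[A₀] b = algebraMap R (R ⊗[A₀] B₀) (a • r) * (1 ⊗ₜ[A₀] b) := by simp
      rw [e1, e2, map_mul, map_mul, AlgEquiv.commutes, AlgHom.commutes]
      show (a • r) * g b = ((a : A₁) * h₁ b : A₁) • r
      show ((a : R) * r) * g b = ((a : R) * g b) * r
      ring
    | add x y hx hy => rw [TensorProduct.add_tmul, map_add, map_add, hx, hy, map_add, add_smul]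
  exact exists_mul_eq_self_of_descent e f hf e₁ Ψ.symm.toRingEquiv hE

end Near

end Groth.SmoothWeil
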